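import Mathlib
import Cfsg.Agent.Inv.FzBasic
import Cfsg.Agent.GT.PGroupElemAb
import Cfsg.Agent.GT.PGroupChain

/-!
# Homogeneous groups: basic tools, sign characters, central transvections
-/

set_option autoImplicit false

namespace Cfsg.Agent.Pr

open Subgroup

/-- Every isomorphism between subgroups extends to an automorphism. -/
def Homog (G : Type*) [Group G] : Prop :=
  ∀ (A B : Subgroup G) (e : A ≃* B), ∃ φ : G ≃* G, ∀ a : A, φ (a : G) = (e a : G)

section basic

variable {G : Type*} [Group G]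

theorem Homog.ext (h : Homog G) {W : Type*} [Group W] {i j : W →* G}
    (hi : Function.Injective i) (hj : Function.Injective j) :
    ∃ φ : G ≃* G, ∀ w, φ (i w) = j w := by
  obtain ⟨φ, hφ⟩ := h i.range j.range
    ((MonoidHom.ofInjective hi).symm.trans (MonoidHom.ofInjective hj))
  refine ⟨φ, fun w => ?_⟩
  have := hφ (MonoidHom.ofInjective hi w)
  simpa [MonoidHom.ofInjective_apply] using this

theorem Homog.of_inj (h : Homog G) {K : Type*} [Group K] [Finite K] (f : K →* G)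
    (hf : Function.Injective f) (hc : ∀ φ : G ≃* G, ∀ k, ∃ k', φ (f k) = f k') : Homog K := by
  intro A B e
  obtain ⟨φ, hφ⟩ := h.ext (i := f.comp A.subtype) (j := (f.comp B.subtype).comp e.toMonoidHom)
    (hf.comp A.subtype_injective) ((hf.comp B.subtype_injective).comp e.injective)
  choose s hs using hc φ
  let ψ : K →* K := MonoidHom.mk' s fun a b => hf (by rw [← hs, map_mul, map_mul, map_mul, hs, hs])
  have hi : Function.Injective ψ := fun a b hab => by
    have : φ (f a) = φ (f b) := by rw [hs, hs]; exact congrArg f hab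
    exact hf (φ.injective this)
  refine ⟨MulEquiv.ofBijective ψ (Finite.injective_iff_bijective.1 hi), fun a => hf ?_⟩
  have := hφ a
  simp only [MonoidHom.comp_apply, coe_subtype] at this
  exact (hs a).symm.trans this

theorem Homog.of_equiv [Finite G] {K : Type*} [Group K] (h : Homog G) (e : G ≃* K) : Homog K :=
  have : Finite K := Finite.of_equiv _ e.toEquiv
  h.of_inj e.symm.toMonoidHom e.symm.injective fun φ k => ⟨e (φ (e.symm k)), by simp⟩

theorem Homog.char [Finite G] (h : Homog G) (K : Subgroup G)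
    (hK : ∀ φ : G ≃* G, ∀ k ∈ K, φ k ∈ K) : Homog K :=
  h.of_inj K.subtype K.subtype_injective fun φ k => ⟨⟨φ k, hK φ k k.2⟩, rfl⟩

/-- Elements of the same order are conjugate under the automorphism group. -/
def OrdT (G : Type*) [Group G] : Prop :=
  ∀ x y : G, orderOf x = orderOf y → ∃ φ : G ≃* G, φ x = y

theorem Homog.ordT [Finite G] (h : Homog G) : OrdT G := by
  intro x y hxy
  obtain ⟨φ, hφ⟩ := h (zpowers x) (zpowers y)
    (mulEquivOfOrderOfEq (g := ⟨x, mem_zpowers x⟩) (g' := ⟨y, mem_zpowers y⟩)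
      (fun a => by obtain ⟨_, k, rfl⟩ := a; exact ⟨k, rfl⟩)
      (fun a => by obtain ⟨_, k, rfl⟩ := a; exact ⟨k, rfl⟩)
      (by rw [← orderOf_coe, ← orderOf_coe]; exact hxy))
  refine ⟨φ, ?_⟩
  have := hφ ⟨x, mem_zpowers x⟩
  rwa [mulEquivOfOrderOfEq_apply_gen] at this

theorem OrdT.of_equiv {K : Type*} [Group K] (h : OrdT G) (e : G ≃* K) : OrdT K := by
  intro x y hxy
  obtain ⟨φ, hφ⟩ := h (e.symm x) (e.symm y) (by rw [MulEquiv.orderOf_eq, MulEquiv.orderOf_eq, hxy])
  exact ⟨(e.symm.trans φ).trans e, by simp [hφ]⟩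

/-- The automorphisms of `P` induced by conjugation in `G`. -/
def autG (P : Subgroup G) : Subgroup (MulAut P) where
  carrier := {α | ∃ g : G, ∀ x : P, ((α x : P) : G) = g * x * g⁻¹}
  one_mem' := ⟨1, by simp⟩
  mul_mem' := by
    rintro α β ⟨g, hg⟩ ⟨k, hk⟩
    exact ⟨g * k, fun x => by rw [MulAut.mul_apply, hg, hk]; group⟩
  inv_mem' := by
    rintro α ⟨g, hg⟩
    refine ⟨g⁻¹, fun x => ?_⟩
    have := hg (α⁻¹ x)
    rw [MulAut.apply_inv_self] at this
    rw [this]; group

theorem mem_normalizer_of_aut {P : Subgroup G} {α : MulAut P} {g : G}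
    (hg : ∀ x : P, ((α x : P) : G) = g * x * g⁻¹) : g ∈ normalizer (P : Set G) := by
  rw [mem_normalizer_iff]
  refine fun x => ⟨fun hx => ?_, fun hx => ?_⟩
  · have := hg ⟨x, hx⟩
    exact this ▸ (α ⟨x, hx⟩).2
  · have := hg (α⁻¹ ⟨_, hx⟩)
    rw [MulAut.apply_inv_self] at this
    have h2 : x = ((α⁻¹ ⟨_, hx⟩ : P) : G) := by simpa using this
    exact h2 ▸ (α⁻¹ ⟨_, hx⟩).2

theorem exists_aut_of_mem {P : Subgroup G} {g : G} (hg : g ∈ normalizer (P : Set G)) :
    ∃ α ∈ autG P, ∀ x : P, ((α x : P) : G) = g * x * g⁻¹ :=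
  ⟨P.normalizerMonoidHom ⟨g, hg⟩, ⟨g, fun _ => rfl⟩, fun _ => rfl⟩

theorem Homog.autG_normal (h : Homog G) (P : Subgroup G) : (autG P).Normal := by
  constructor
  rintro α ⟨g, hg⟩ β
  obtain ⟨φ, hφ⟩ := h P P β
  refine ⟨φ g, fun x => ?_⟩
  have h1 := hφ (β⁻¹ x)
  rw [MulAut.apply_inv_self] at h1
  rw [MulAut.mul_apply, MulAut.mul_apply, ← hφ, hg, map_mul, map_mul, map_inv, h1]

/-- An odd power of any element has order a power of two. -/
theorem exists_odd_pow [Finite G] (t : G) : ∃ m, Odd m ∧ IsPGroup 2 (zpowers (t ^ m)) := by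
  have h0 : orderOf t ≠ 0 := (orderOf_pos t).ne'
  obtain ⟨k, m, hm, e⟩ := Nat.exists_eq_two_pow_mul_odd h0
  refine ⟨m, hm, IsPGroup.of_card (n := k) ?_⟩
  rw [Nat.card_zpowers, orderOf_pow' _ hm.pos.ne', e, Nat.gcd_eq_right (Dvd.intro_left _ rfl),
    Nat.mul_div_cancel _ hm.pos]

theorem exists_two_pow_odd [Finite G] (t : G) : ∃ k, Odd (orderOf (t ^ 2 ^ k)) := by
  have h0 : orderOf t ≠ 0 := (orderOf_pos t).ne'
  obtain ⟨k, m, hm, e⟩ := Nat.exists_eq_two_pow_mul_odd h0
  refine ⟨k, ?_⟩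
  rwa [orderOf_pow' _ (by positivity), e, Nat.gcd_eq_right (Dvd.intro _ rfl),
    Nat.mul_div_cancel_left _ (by positivity)]

theorem conj_odd_pow {t x : G} (h : t * t * x = x * (t * t)) {m : ℕ} (hm : Odd m) :
    t ^ m * x * (t ^ m)⁻¹ = t * x * t⁻¹ := by
  obtain ⟨k, rfl⟩ := hm
  have h1 : Commute ((t * t) ^ k) x := Commute.pow_left h k
  rw [pow_succ', pow_mul, pow_two, mul_assoc t, h1.eq]
  group

/-- An element inducing an automorphism of order at most two on a maximal `2`-subgroup induces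
an inner automorphism. -/
theorem inner_of_syl [Finite G] {P L : Subgroup G} (hP : Inv.Fz.IsSylIn 2 P L) {t : G}
    (ht : t ∈ normalizer (P : Set G)) (htL : t ∈ L) (h2 : ∀ x ∈ P, t * t * x = x * (t * t)) :
    ∃ y ∈ P, ∀ x ∈ P, t * x * t⁻¹ = y * x * y⁻¹ := by
  obtain ⟨m, hm, hp⟩ := exists_odd_pow t
  have h1 : IsPGroup 2 (zpowers (t ^ m) ⊔ P : Subgroup G) :=
    IsPGroup.to_sup_of_normal_right' hp hP.isPGroup (zpowers_le.2 (pow_mem ht m))
  have h3 := hP.eq_of_le h1 (sup_le (zpowers_le.2 (pow_mem htL m)) hP.le) le_sup_right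
  exact ⟨t ^ m, h3 ▸ mem_sup_left (mem_zpowers _), fun x hx => (conj_odd_pow (h2 x hx) hm).symm⟩

end basic

section chars

variable {P : Type*} [Group P]

/-- `z` to the power `0` or `1` according to the sign. -/
def pw (z : P) (u : ℤˣ) : P := if u = 1 then 1 else z

theorem pw_one (z : P) : pw z 1 = 1 := if_pos rfl

theorem pw_neg (z : P) : pw z (-1) = z := if_neg (by decide)

theorem one_pw (u : ℤˣ) : pw (1 : P) u = 1 := by unfold pw; split_ifs <;> rfl

theorem pw_mul {z : P} (hz : z * z = 1) (u v : ℤˣ) : pw z (u * v) = pw z u * pw z v := by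
  rcases Int.units_eq_one_or u with rfl | rfl <;> rcases Int.units_eq_one_or v with rfl | rfl <;>
    simp [pw_one, pw_neg, hz]

theorem mul_pw (z w : P) (u : ℤˣ) : pw (z * w) u = pw z u * pw w u := by
  rcases Int.units_eq_one_or u with rfl | rfl <;> simp [pw_one, pw_neg]

theorem pw_mem {H : Subgroup P} {z : P} (hz : z ∈ H) (u : ℤˣ) : pw z u ∈ H := by
  rcases Int.units_eq_one_or u with rfl | rfl <;> simp [pw_one, pw_neg, hz]

theorem map_pw {Q F : Type*} [Group Q] [FunLike F P Q] [MonoidHomClass F P Q] (f : F) (z : P)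
    (u : ℤˣ) : f (pw z u) = pw (f z) u := by
  rcases Int.units_eq_one_or u with rfl | rfl <;> simp [pw_one, pw_neg]

theorem pw_inj {z : P} (hz : z ≠ 1) {u v : ℤˣ} (h : pw z u = pw z v) : u = v := by
  rcases Int.units_eq_one_or u with rfl | rfl <;> rcases Int.units_eq_one_or v with rfl | rfl <;>
    simp_all [pw_one, pw_neg]

theorem pw_mul_self {z : P} (hz : z * z = 1) (u : ℤˣ) : pw z u * pw z u = 1 := by
  rw [← pw_mul hz, Int.units_mul_self, pw_one]

/-- The central transvection `x ↦ x * z ^ l x`. -/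
def tv (z : P) (l : P →* ℤˣ) (hc : z ∈ center P) (hz : z * z = 1) (hl : l z = 1) : MulAut P :=
  have key : ∀ x, x * pw z (l x) * pw z (l (x * pw z (l x))) = x := fun x => by
    rw [map_mul, map_pw, hl, one_pw, mul_one, mul_assoc, pw_mul_self hz, mul_one]
  { toFun := fun x => x * pw z (l x)
    invFun := fun x => x * pw z (l x)
    left_inv := key
    right_inv := key
    map_mul' := fun x y => by
      rw [map_mul, pw_mul hz, mul_assoc, mul_assoc, ← mul_assoc y,
        mem_center_iff.1 (pw_mem hc (l x)) y, mul_assoc] }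

theorem tv_apply (z : P) (l : P →* ℤˣ) (hc : z ∈ center P) (hz : z * z = 1) (hl : l z = 1)
    (x : P) : tv z l hc hz hl x = x * pw z (l x) := rfl

theorem tv_inv_apply (z : P) (l : P →* ℤˣ) (hc : z ∈ center P) (hz : z * z = 1) (hl : l z = 1)
    (x : P) : (tv z l hc hz hl)⁻¹ x = x * pw z (l x) := rfl

/-- The commutator of a central transvection with an element of a normal subgroup of the
automorphism group. -/
theorem exists_comm {Γ : Subgroup (MulAut P)} [hΓ : Γ.Normal] {α : MulAut P} (hα : α ∈ Γ) {z : P}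
    (l : P →* ℤˣ) (hc : z ∈ center P) (hz : z * z = 1) (hl : l z = 1) (hl' : l (α z) = 1) :
    ∃ γ ∈ Γ, ∀ x, γ x = x * (pw z (l x) * pw (α z) (l (α⁻¹ x))) := by
  refine ⟨tv z l hc hz hl * α * (tv z l hc hz hl)⁻¹ * α⁻¹,
    mul_mem (hΓ.conj_mem _ hα _) (inv_mem hα), fun x => ?_⟩
  rw [MulAut.mul_apply, MulAut.mul_apply, MulAut.mul_apply, tv_inv_apply, map_mul,
    MulAut.apply_inv_self, map_pw, tv_apply, map_mul, map_pw, hl', one_pw, mul_one, mul_assoc,
    mem_center_iff.1 (pw_mem hc (l x))]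

/-- The sign character of a subgroup of index two. -/
theorem exists_char_of_index_two {M : Subgroup P} (h : M.index = 2) :
    ∃ l : P →* ℤˣ, ∀ x, l x = 1 ↔ x ∈ M := by
  classical
  refine ⟨MonoidHom.mk' (fun x => if x ∈ M then 1 else -1) fun a b => ?_, fun x => ?_⟩
  · have := mul_mem_iff_of_index_two h (a := a) (b := b)
    by_cases ha : a ∈ M <;> by_cases hb : b ∈ M <;> simp_all
  · by_cases hx : x ∈ M <;> simp [hx]

theorem exists_char_of_ne_top [Finite P] (hP : IsPGroup 2 P) {Y : Subgroup P} (hY : Y ≠ ⊤) :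
    ∃ l : P →* ℤˣ, l ≠ 1 ∧ ∀ y ∈ Y, l y = 1 := by
  obtain ⟨M, hM, hYM⟩ := (eq_top_or_exists_le_coatom Y).resolve_left hY
  obtain ⟨l, hl⟩ := exists_char_of_index_two ((GT.PG.isCoatom_iff_index_eq hP).1 hM)
  refine ⟨l, fun e => hM.1 (eq_top_iff.2 fun x _ => (hl x).1 (by rw [e]; rfl)),
    fun y hy => (hl y).2 (hYM hy)⟩

theorem exists_char_sep [Finite P] (hc : ∀ a b : P, a * b = b * a) (h2 : ∀ a : P, a * a = 1)
    {W : Subgroup P} {v : P} (hv : v ∉ W) :
    ∃ l : P →* ℤˣ, (∀ w ∈ W, l w = 1) ∧ l v = -1 := by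
  have hE : IsElementaryAbelian 2 (⊤ : Subgroup P) :=
    IsElementaryAbelian.top_iff.2 ⟨⟨⟨hc⟩⟩, fun x => by rw [pow_two, h2]⟩
  obtain ⟨M, h1, -, h3, h4, -⟩ := hE.exists_hyperplane le_top (mem_top v) hv
  obtain ⟨l, hl⟩ := exists_char_of_index_two (M := M) (by rwa [relIndex_top_right] at h3)
  exact ⟨l, fun w hw => (hl w).2 (h1 hw),
    (Int.units_eq_one_or (l v)).resolve_left fun e => h4 ((hl v).1 e)⟩

/-- The intersection of the kernels of the sign characters. -/
def phi (P : Type*) [Group P] : Subgroup P where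
  carrier := {x | ∀ l : P →* ℤˣ, l x = 1}
  one_mem' l := map_one l
  mul_mem' ha hb l := by rw [map_mul, ha l, hb l, mul_one]
  inv_mem' ha l := by rw [map_inv, ha l, inv_one]

instance phi_normal : (phi P).Normal :=
  ⟨fun a ha g l => by rw [map_mul, map_mul, ha l, mul_one, ← map_mul, mul_inv_cancel, map_one]⟩

theorem enough_two : HasEnoughRootsOfUnity ℤ 2 :=
  ⟨⟨-1, IsPrimitiveRoot.neg_one 0 (by norm_num)⟩, inferInstance⟩

theorem index_phi_le [Finite P] : (phi P).index ≤ Nat.card (P →* ℤˣ) := by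
  have hc : ∀ a b : P ⧸ phi P, a * b = b * a := by
    intro a b
    obtain ⟨a, rfl⟩ := QuotientGroup.mk_surjective a
    obtain ⟨b, rfl⟩ := QuotientGroup.mk_surjective b
    rw [← QuotientGroup.mk_mul, ← QuotientGroup.mk_mul, QuotientGroup.eq]
    intro l
    simp only [map_mul, map_inv]
    rw [mul_comm (l b), inv_mul_cancel]
  letI : CommGroup (P ⧸ phi P) := { (inferInstance : Group (P ⧸ phi P)) with mul_comm := hc }
  have he : Monoid.exponent (P ⧸ phi P) ∣ 2 := by
    refine Monoid.exponent_dvd_of_forall_pow_eq_one fun a => ?_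
    obtain ⟨a, rfl⟩ := QuotientGroup.mk_surjective a
    rw [← QuotientGroup.mk_pow, QuotientGroup.eq_one_iff]
    intro l
    rw [map_pow, Int.units_sq]
  have := enough_two
  have := HasEnoughRootsOfUnity.of_dvd ℤ he
  have : Finite (P →* ℤˣ) := Finite.of_injective _ DFunLike.coe_injective
  rw [index_eq_card, ← CommGroup.card_monoidHom_of_hasEnoughRootsOfUnity (P ⧸ phi P) ℤ]
  refine Nat.card_le_card_of_injective (fun f => f.comp (QuotientGroup.mk' _)) fun f g h => ?_
  exact (MonoidHom.cancel_right (QuotientGroup.mk'_surjective _)).1 h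

theorem three_le_card_char [Finite P] (hP : IsPGroup 2 P) (hc : ¬ IsCyclic P) :
    3 ≤ Nat.card (P →* ℤˣ) := by
  have : Finite (P →* ℤˣ) := Finite.of_injective _ DFunLike.coe_injective
  have hz : ∀ x : P, zpowers x ≠ ⊤ := fun x e => hc ⟨⟨x, fun y => by
    have : y ∈ zpowers x := e ▸ mem_top y
    exact this⟩⟩
  obtain ⟨l, hl, -⟩ := exists_char_of_ne_top hP (hz 1)
  obtain ⟨x, hx⟩ : ∃ x, l x ≠ 1 := by
    by_contra h
    push Not at h
    exact hl (MonoidHom.ext h)
  obtain ⟨l', hl', h⟩ := exists_char_of_ne_top hP (hz x)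
  have hne : l ≠ l' := fun e => hx (e ▸ h x (mem_zpowers x))
  classical
  have := Fintype.ofFinite (P →* ℤˣ)
  rw [Nat.card_eq_fintype_card]
  have h3 : ({1, l, l'} : Finset (P →* ℤˣ)).card = 3 :=
    Finset.card_eq_three.2 ⟨1, l, l', hl.symm, hl'.symm, hne, rfl⟩
  exact h3 ▸ Finset.card_le_univ _

end chars

end Cfsg.Agent.Pr
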