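import Mathlib
import Cfsg.Agent.Pres.SL2
import Cfsg.Agent.Pres.Lift
import Cfsg.Agent.Cl.Transport

/-!
# Lists of relations, free products of presentations, generation of `SL_n` by two elements
-/

set_option autoImplicit false

namespace Cfsg.Agent.Pr

open Subgroup Function

universe u

section Rels

variable {E : Type u} {G : Type*} [Group E] [Group G] {f : E →* G} {m n : ℕ}
  {P Q : ∀ (J : Type u) [Group J], (E →* J) → (J →* G) → Prop}

/-- At most `n` elements of the kernel of `f` enforce the property `P`. -/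
def Rels (f : E →* G) (n : ℕ) (P : ∀ (J : Type u) [Group J], (E →* J) → (J →* G) → Prop) : Prop :=
  ∃ l : List E, l.length ≤ n ∧ (∀ x ∈ l, f x = 1) ∧ ∀ (J : Type u) [Group J] (π : E →* J)
    (φ : J →* G), (∀ x ∈ l, π x = 1) → (∀ e, φ (π e) = f e) → P J π φ

theorem Rels.kerGen (h : Rels f n P) (H : ∀ (J : Type u) [Group J] (π : E →* J) (φ : J →* G),
    Surjective π → (∀ e, φ (π e) = f e) → P J π φ → Injective φ) : KerGen f n :=
  let ⟨l, h1, h2, h3⟩ := h
  KerGen.of_inj l h1 h2 fun J _ π φ a b c => H J π φ a c (h3 J π φ b c)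

theorem Rels.mono (h : Rels f m P) (hmn : m ≤ n) (H : ∀ (J : Type u) [Group J] (π : E →* J)
    (φ : J →* G), (∀ e, φ (π e) = f e) → P J π φ → Q J π φ) : Rels f n Q :=
  let ⟨l, h1, h2, h3⟩ := h
  ⟨l, h1.trans hmn, h2, fun J _ π φ a b => H J π φ b (h3 J π φ a b)⟩

theorem Rels.and (h : Rels f m P) (h' : Rels f n Q) :
    Rels f (m + n) fun J _ π φ => P J π φ ∧ Q J π φ := by
  obtain ⟨l, h1, h2, h3⟩ := h
  obtain ⟨l', h1', h2', h3'⟩ := h'
  refine ⟨l ++ l', by simpa using Nat.add_le_add h1 h1', fun x hx => ?_, fun J _ π φ a b =>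
    ⟨h3 J π φ (fun x hx => a x (List.mem_append_left _ hx)) b,
      h3' J π φ (fun x hx => a x (List.mem_append_right _ hx)) b⟩⟩
  exact (List.mem_append.1 hx).elim (h2 x) (h2' x)

theorem Rels.of_forall (H : ∀ (J : Type u) [Group J] (π : E →* J) (φ : J →* G),
    (∀ e, φ (π e) = f e) → P J π φ) : Rels f 0 P :=
  ⟨[], le_rfl, by simp, fun J _ π φ _ b => H J π φ b⟩

theorem Rels.eq {a b : E} (h : f a = f b) : Rels f 1 fun _ _ π _ => π a = π b :=
  ⟨[a * b⁻¹], le_rfl, by simp [h], fun _ _ π _ a _ => by simpa [mul_inv_eq_one] using a⟩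

theorem Rels.mem {a : E} {H : Subgroup E} (h : f a ∈ H.map f) :
    Rels f 1 fun _ _ π _ => π a ∈ H.map π := by
  obtain ⟨b, hb, e⟩ := h
  exact (Rels.eq e.symm).mono le_rfl fun J _ π φ _ h => ⟨b, hb, h.symm⟩

theorem Rels.commute {a b : E} (h : Commute (f a) (f b)) :
    Rels f 1 fun _ _ π _ => Commute (π a) (π b) :=
  (Rels.eq (a := a * b) (b := b * a) (by simpa using h.eq)).mono le_rfl fun J _ π φ _ h => by
    simpa [Commute, SemiconjBy] using h

theorem Rels.forall {α : Type*} (l : List α)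
    {S : α → ∀ (J : Type u) [Group J], (E →* J) → (J →* G) → Prop} (h : ∀ a ∈ l, Rels f n (S a)) :
    Rels f (l.length * n) fun J _ π φ => ∀ a ∈ l, S a J π φ := by
  induction l with
  | nil => simpa using Rels.of_forall fun _ _ _ _ _ => by simp
  | cons a l ih =>
    refine ((h a (by simp)).and (ih fun b hb => h b (by simp [hb]))).mono
      (by simp [add_mul, add_comm]) fun J _ π φ _ H b hb => ?_
    rcases List.mem_cons.1 hb with rfl | hb
    exacts [H.1, H.2 b hb]

theorem commute_of_closure {J : Type*} [Group J] {s t : Set J} (h : ∀ a ∈ s, ∀ b ∈ t, Commute a b)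
    {x y : J} (hx : x ∈ closure s) (hy : y ∈ closure t) : Commute x y := by
  have h1 : closure s ≤ centralizer t := (closure_le _).2 fun a ha b hb => (h a ha b hb).eq.symm
  have h2 : closure t ≤ centralizer {x} := (closure_le _).2 fun b hb z hz => by
    rw [Set.mem_singleton_iff.1 hz]; exact (h1 hx b hb).symm
  exact h2 hy x rfl

/-- Two finitely generated subgroups commute. -/
theorem Rels.comm (l l' : List E) (h : ∀ a ∈ l, ∀ b ∈ l', Commute (f a) (f b)) :
    Rels f (l.length * l'.length) fun _ _ π _ =>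
      ∀ a ∈ closure {x | x ∈ l}, ∀ b ∈ closure {x | x ∈ l'}, Commute (π a) (π b) := by
  refine (Rels.forall l fun a ha => Rels.forall l' fun b hb => Rels.commute (h a ha b hb)).mono
    (by simp) fun J _ π φ _ H a ha b hb => ?_
  have h1 := mem_map_of_mem π ha
  have h2 := mem_map_of_mem π hb
  rw [MonoidHom.map_closure] at h1 h2
  refine commute_of_closure ?_ h1 h2
  rintro _ ⟨x, hx, rfl⟩ _ ⟨y, hy, rfl⟩
  exact H x hx y hy

theorem Rels.root {F : Type*} [Field F] [Finite F] {X : F → G} (hX : Addv X) (hi : Injective X)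
    {ζ : F} (hζ : ∀ a : F, a ≠ 0 → ∃ k : ℕ, ζ ^ k = a) {g u : E} (hu : f u = X 1)
    (hg : ∀ a, f g * X a * (f g)⁻¹ = X (ζ * a)) :
    Rels f 4 fun J _ π φ => ∃ x : F → J, RootLift φ X (π g) (π u) x :=
  exists_root_rels hX hi hζ hu hg

end Rels

theorem HasPres.coprod {A B : Type*} [Group A] [Group B] {k r k' r' : ℕ} (h : HasPres A k r)
    (h' : HasPres B k' r') : HasPres (Monoid.Coprod A B) (k + k') (r + r') := by
  obtain ⟨g, h⟩ := h
  obtain ⟨g', h'⟩ := h'
  obtain ⟨l, h1, h2, h3⟩ := h.univ.{0, 0}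
  obtain ⟨l', h1', h2', h3'⟩ := h'.univ.{0, 0}
  have em : ∀ {J : Type _} [Group J] (x : Fin k ⊕ Fin k' → J) (w : FreeGroup (Fin k)),
      FreeGroup.lift x (FreeGroup.map Sum.inl w) = FreeGroup.lift (fun i => x (Sum.inl i)) w :=
    fun x w => (eq_lift ((FreeGroup.lift x).comp (FreeGroup.map Sum.inl)) w).trans (by simp)
  have em' : ∀ {J : Type _} [Group J] (x : Fin k ⊕ Fin k' → J) (w : FreeGroup (Fin k')),
      FreeGroup.lift x (FreeGroup.map Sum.inr w) = FreeGroup.lift (fun i => x (Sum.inr i)) w :=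
    fun x w => (eq_lift ((FreeGroup.lift x).comp (FreeGroup.map Sum.inr)) w).trans (by simp)
  have : Pres (Sum.elim (fun i => Monoid.Coprod.inl (g i)) fun i => Monoid.Coprod.inr (g' i) :
      Fin k ⊕ Fin k' → Monoid.Coprod A B) (r + r') := by
    refine Pres.of_univ (l.map (FreeGroup.map Sum.inl) ++ l'.map (FreeGroup.map Sum.inr))
      (by simpa using Nat.add_le_add h1 h1') ?_ (fun w hw => ?_) fun J _ x hx => ?_
    · rw [eq_top_iff, ← Monoid.Coprod.range_inl_sup_range_inr, MonoidHom.range_eq_map,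
        MonoidHom.range_eq_map, ← h.closure_eq, ← h'.closure_eq, MonoidHom.map_closure,
        MonoidHom.map_closure]
      refine sup_le (closure_mono ?_) (closure_mono ?_)
      · rintro _ ⟨_, ⟨i, rfl⟩, rfl⟩; exact ⟨Sum.inl i, rfl⟩
      · rintro _ ⟨_, ⟨i, rfl⟩, rfl⟩; exact ⟨Sum.inr i, rfl⟩
    · rcases List.mem_append.1 hw with hw | hw <;> obtain ⟨w, hw', rfl⟩ := List.mem_map.1 hw
      · refine ((eq_lift ((FreeGroup.lift _).comp (FreeGroup.map Sum.inl)) w).trans ?_)
        simp only [MonoidHom.comp_apply, FreeGroup.map.of, FreeGroup.lift_apply_of, Sum.elim_inl]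
        rw [← map_lift, h2 w hw', map_one]
      · refine ((eq_lift ((FreeGroup.lift _).comp (FreeGroup.map Sum.inr)) w).trans ?_)
        simp only [MonoidHom.comp_apply, FreeGroup.map.of, FreeGroup.lift_apply_of, Sum.elim_inr]
        rw [← map_lift, h2' w hw', map_one]
    · obtain ⟨γ, hγ⟩ := h3 J (fun i => x (Sum.inl i)) fun w hw => by
        rw [← em]; exact hx _ (List.mem_append_left _ (List.mem_map_of_mem hw))
      obtain ⟨γ', hγ'⟩ := h3' J (fun i => x (Sum.inr i)) fun w hw => by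
        rw [← em']; exact hx _ (List.mem_append_right _ (List.mem_map_of_mem hw))
      exact ⟨Monoid.Coprod.lift γ γ', by rintro (i | i) <;> simp [hγ, hγ']⟩
  exact this.hasPres (by simp) (by simp)

theorem hasPres_free (k : ℕ) : HasPres (FreeGroup (Fin k)) k 0 :=
  ⟨FreeGroup.of, by
    have : FreeGroup.lift (FreeGroup.of : Fin k → FreeGroup (Fin k)) = MonoidHom.id _ :=
      FreeGroup.ext_hom _ _ (by simp)
    rw [Pres, this]
    exact ⟨surjective_id, KerGen.of_injective injective_id⟩⟩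

theorem sl_two_gen {F ι : Type*} [Field F] [Finite F] [Fintype ι] [DecidableEq ι]
    (hn : 2 ≤ Fintype.card ι) :
    ∃ a b : Matrix.SpecialLinearGroup ι F, closure {a, b} = ⊤ := by
  suffices h : ∃ a b : Matrix.SpecialLinearGroup (Fin (Fintype.card ι)) F, closure {a, b} = ⊤ by
    obtain ⟨a, b, h⟩ := h
    let e := Cl.slReindexEquiv F (Fintype.equivFin ι).symm
    refine ⟨e a, e b, ?_⟩
    have := congrArg (Subgroup.map e.toMonoidHom) h
    rwa [MonoidHom.map_closure, Set.image_pair, ← MonoidHom.range_eq_map,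
      MonoidHom.range_eq_top.2 e.surjective] at this
  generalize Fintype.card ι = n at hn
  obtain ⟨a, b, h⟩ := psl_two_gen (F := F) hn
  obtain ⟨a, rfl⟩ := QuotientGroup.mk'_surjective _ a
  obtain ⟨b, rfl⟩ := QuotientGroup.mk'_surjective _ b
  refine ⟨a, b, Cl.sl_eq_top_of_transvection_mem _ fun i j hij c => ?_⟩
  rw [← Set.image_pair, ← MonoidHom.map_closure] at h
  obtain ⟨y, hy, e⟩ := h.ge (mem_top (QuotientGroup.mk' _
    (Matrix.SpecialLinearGroup.transvection hij c)))
  obtain ⟨z, hz, e⟩ := (QuotientGroup.mk'_eq_mk' _).1 e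
  have := Fintype.ofFinite F
  have h1 : z ^ (Fintype.card F - 1) = 1 := by
    obtain ⟨r, hr, hr'⟩ := Matrix.SpecialLinearGroup.mem_center_iff.1 hz
    have h0 : r ≠ 0 := by
      rintro rfl
      rw [zero_pow (by simp; omega)] at hr
      exact zero_ne_one hr
    apply Subtype.ext
    rw [Matrix.SpecialLinearGroup.coe_pow, ← hr', ← map_pow,
      FiniteField.pow_card_sub_one_eq_one r h0, map_one]
    rfl
  have h2 : ∀ k : ℕ, Matrix.SpecialLinearGroup.transvection hij c ^ k =
      Matrix.SpecialLinearGroup.transvection hij (k * c) := fun k => by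
    induction k with
    | zero => simp
    | succ k ih => rw [pow_succ, ih, ← Matrix.SpecialLinearGroup.transvection_add]; simp [add_mul]
  have h3 := pow_mem hy (Fintype.card F - 1)
  rw [← mul_one (y ^ _), ← h1, ← Commute.mul_pow (mem_center_iff.1 hz y), e, h2,
    Nat.cast_sub Fintype.card_pos, FiniteField.cast_card_eq_zero] at h3
  simpa [← Matrix.SpecialLinearGroup.transvection_inv] using h3

theorem mem_normalClosure_of_perfect {L : Type*} [Group L] {a b : L} (h : closure {a, b} = ⊤)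
    (hp : commutator L = ⊤) : normalClosure {a} = ⊤ := by
  have : IsMulCommutative (L ⧸ normalClosure {a}) := by
    have h1 := congrArg (Subgroup.map (QuotientGroup.mk' (normalClosure {a}))) h
    rw [MonoidHom.map_closure, Set.image_pair, ← MonoidHom.range_eq_map,
      MonoidHom.range_eq_top.2 (QuotientGroup.mk'_surjective _), QuotientGroup.mk'_apply,
      (QuotientGroup.eq_one_iff (N := normalClosure {a}) a).2 (subset_normalClosure rfl)] at h1
    refine ⟨⟨fun x y => (commute_of_closure ?_ (h1.ge (mem_top x)) (h1.ge (mem_top y))).eq⟩⟩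
    rintro _ (rfl | rfl) _ (rfl | rfl) <;> simp
  rw [eq_top_iff, ← hp]
  exact Subgroup.Normal.quotient_commutative_iff_commutator_le.1 this

end Cfsg.Agent.Pr
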