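import Mathlib
import Cfsg.Agent.Pres.Rels
import Cfsg.Agent.Chev.CTA2

/-!
# Lifting Steinberg systems from rank two data
-/

set_option autoImplicit false

namespace Cfsg.Agent.Pr

open Subgroup Function Cfsg.Agent.Chev Cfsg.Agent.Chev.StRoot

variable {ι Nd M : Type} [AddCommGroup M] [Fintype Nd] {K : Type*} [Field K] {J G₀ : Type*} [Group J]
  [Group G₀] {R : StRoot ι Nd M} {x₀ : ι → K → G₀} {y a : ι → K → J} {φ : J →* G₀}

theorem loc_of_inj (h₀ : R.IsSt x₀) {S : Set Nd} {H : Subgroup J} (hH : ∀ x ∈ H, φ x = 1 → x = 1)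
    (ha : ∀ r ∈ R.sgOn S, ∀ t, a r t ∈ H ∧ φ (a r t) = x₀ r t) :
    ∃ y : ι → K → J, R.LocSt S y ∧ ∀ r ∈ R.sgOn S, y r = a r := by
  have hm : ∀ r ∈ R.supp S, ∀ t, ∃ z : H, φ z = x₀ r t := fun r hr t => by
    obtain ⟨z, hz, e⟩ := XS_le (H := H.map φ) (fun r hr t => ⟨_, (ha r hr t).1, (ha r hr t).2⟩)
      (h₀.x_mem_XS_sgOn hr t)
    exact ⟨⟨z, hz⟩, e⟩
  choose! s hs using hm
  have hi : Injective (φ.comp H.subtype) :=
    (injective_iff_map_eq_one _).2 fun z hz => Subtype.ext (hH z z.2 hz)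
  have hs' : R.LocSt S s := LocSt.of_map _ hi ((h₀.locSt _).congr fun r hr => funext (hs r hr))
  exact ⟨_, hs'.map H.subtype, fun r hr => funext fun t => eq_of_map_eq hH (s r t).2 (ha r hr t).1
    ((hs r (sgOn_subset_supp hr) t).trans (ha r hr t).2.symm)⟩

theorem ng_mem_sgOn {S : Set Nd} {r : ι} (h : r ∈ R.sgOn S) : R.ng r ∈ R.sgOn S := by
  obtain ⟨i, hi, rfl | rfl⟩ := h
  exacts [ng_sr_mem_sgOn hi, by rw [R.ng_ng]; exact sr_mem_sgOn hi]

theorem locSt_single {i k : Nd} (h : R.LocSt {i, k} y) (e : ∀ r ∈ R.sgOn {i, k}, y r = a r) :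
    R.LocSt {i} a := by
  refine (h.mono (by simp)).congr fun r hr => (e r (sgOn_mono (by simp) (supp_subset_sgOn ?_ hr))).symm
  rintro _ rfl _ rfl h
  exact absurd rfl h

theorem locSt_pair' (h₀ : R.IsModel x₀) {i k : Nd} (hik : R.A (R.sr i) (R.sr k) = 0)
    (hi : R.LocSt {i} y) (hk : R.LocSt {k} y)
    (hc : ∀ r ∈ R.sgOn {i}, ∀ s ∈ R.sgOn {k}, ∀ t u, Commute (y r t) (y s u)) : R.LocSt {i, k} y := by
  have h1 : ∀ r ∈ R.supp {i, k}, r ∈ R.sgOn {i} ∨ r ∈ R.sgOn {k} := fun r hr => by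
    obtain ⟨j, rfl | rfl, e⟩ := supp_subset_sgOn (by
      rintro _ (rfl | rfl) _ (rfl | rfl) h
      exacts [absurd rfl h, hik, R.A_zero_comm hik, absurd rfl h]) hr
    exacts [Or.inl ⟨_, rfl, e⟩, Or.inr ⟨_, rfl, e⟩]
  have h2 : ∀ r ∈ R.sgOn {i}, ∀ s ∈ R.sgOn {k}, R.A r s = 0 := by
    rintro _ ⟨_, rfl, rfl | rfl⟩ _ ⟨_, rfl, rfl | rfl⟩ <;> simp [R.A_ng_left, R.A_ng_right, hik]
  have h5 : ∀ r s, R.A r s = 0 → s ≠ r ∧ s ≠ R.ng r := fun r s e =>
    ⟨by rintro rfl; rw [R.A_self] at e; omega, by rintro rfl; rw [R.A_ng_right, R.A_self] at e; omega⟩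
  have h6 : ∀ r ∈ R.sgOn {i}, ∀ s ∈ R.sgOn {k}, R.mid r s = ∅ := fun r hr s hs =>
    Set.eq_empty_of_forall_notMem fun γ hγ => by
      obtain ⟨n1, n2, n3, n4⟩ := R.ne_of_mem_mid (h5 r s (h2 r hr s hs)).2 hγ
      have := h1 γ (closed_supp _ _ (sgOn_subset_supp (sgOn_mono (by simp) hr)) _
        (sgOn_subset_supp (sgOn_mono (by simp) hs)) hγ)
      obtain ⟨_, rfl, rfl | rfl⟩ := hr <;> obtain ⟨_, rfl, rfl | rfl⟩ := hs <;>
        rcases this with ⟨_, rfl, rfl | rfl⟩ | ⟨_, rfl, rfl | rfl⟩ <;> simp_all [R.ng_ng]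
  have h3 : ∀ r s, R.A r s = 0 → R.mid r s = ∅ → R.mid (R.ng r) s = ∅ →
      (∀ t u, Commute (y r t) (y s u)) → (∀ t u, Commute (y (R.ng r) t) (y s u)) → R.NConj y r s := by
    intro r s e m1 m2 c1 c2 t _ u
    have e' : R.A (R.ng r) s = 0 := by rw [R.A_ng_left, e]; rfl
    have c0 : ∀ t u, Commute (x₀ r t) (x₀ s u) :=
      (h₀.comm r s (h5 _ _ e).1 (h5 _ _ e).2).commute (h5 _ _ e).1 (h5 _ _ e).2 m1
    have c0' : ∀ t u, Commute (x₀ (R.ng r) t) (x₀ s u) :=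
      (h₀.comm _ s (h5 _ _ e').1 (h5 _ _ e').2).commute (h5 _ _ e').1 (h5 _ _ e').2 m2
    have e1 := h₀.nconj r s 1 one_ne_zero 1
    rw [nn, (((c0 _ _).mul_left (c0' _ _)).mul_left (c0 _ _)).eq, mul_inv_cancel_right,
      R.refl_eq_self e] at e1
    have e2 := h₀.x_inj s e1
    rw [one_zpow, mul_one, mul_one] at e2
    rw [nn, (((c1 _ _).mul_left (c2 _ _)).mul_left (c1 _ _)).eq, mul_inv_cancel_right,
      R.refl_eq_self e, ← e2, e]
    simp
  refine ⟨fun r hr => (h1 r hr).elim (fun h => hi.add r (sgOn_subset_supp h))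
    fun h => hk.add r (sgOn_subset_supp h), fun r hr s hs e1 e2 => ?_, fun r hr s hs => ?_⟩
  · rcases h1 r hr with hr | hr <;> rcases h1 s hs with hs | hs
    · exact hi.comm r (sgOn_subset_supp hr) s (sgOn_subset_supp hs) e1 e2
    · exact isComm_of_nil (terms_eq_nil e1 e2 (h6 r hr s hs)) (hc r hr s hs)
    · exact isComm_of_nil (terms_eq_nil e1 e2 (R.mid_comm s r ▸ h6 s hs r hr))
        fun t u => (hc s hs r hr u t).symm
    · exact hk.comm r (sgOn_subset_supp hr) s (sgOn_subset_supp hs) e1 e2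
  · rcases h1 r hr with hr | hr <;> rcases h1 s hs with hs | hs
    · exact hi.nconj r (sgOn_subset_supp hr) s (sgOn_subset_supp hs)
    · exact h3 r s (h2 r hr s hs) (h6 r hr s hs) (h6 _ (ng_mem_sgOn hr) s hs) (hc r hr s hs)
        (hc _ (ng_mem_sgOn hr) s hs)
    · exact h3 r s (R.A_zero_comm (h2 s hs r hr)) (R.mid_comm s r ▸ h6 s hs r hr)
        (R.mid_comm s _ ▸ h6 s hs _ (ng_mem_sgOn hr)) (fun t u => (hc s hs r hr u t).symm)
        fun t u => (hc s hs _ (ng_mem_sgOn hr) u t).symm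
    · exact hk.nconj r (sgOn_subset_supp hr) s (sgOn_subset_supp hs)

theorem locSt_of_AB [Finite ι] (h₀ : R.IsModel x₀) (hd : R.LocDec) {i k : Nd}
    (hik : R.A (R.sr k) (R.sr i) < 0) (hφ : ∀ r ∈ R.supp {i, k}, ∀ t, φ (y r t) = x₀ r t)
    (h : R.RelOn y (R.supp {i, k})) : R.LocSt {i, k} y := by
  classical
  have e : R.supp ({i, k} : Finset Nd) = R.supp {i, k} := by simp
  have := (sub_isAB (e ▸ h.add) (e ▸ h.comm)).isSt_of_map (hd.decomp_sub hik) (h₀.sub {i, k}) φ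
    fun r => hφ r (e ▸ r.2)
  exact ⟨h.add, h.comm, fun r hr s hs => this.nconj ⟨r, e ▸ hr⟩ ⟨s, e ▸ hs⟩⟩

/-- The kernel of a covering generated by local Steinberg systems. -/
theorem ker_of_loc [Finite ι] [Finite K] [DecidableEq Nd] (h₀ : R.IsModel x₀)
    (hφ : ∀ r ∈ R.sgOn Set.univ, ∀ t, φ (a r t) = x₀ r t)
    (hloc : ∀ i k, ∃ y : ι → K → J, R.LocSt {i, k} y ∧ ∀ r ∈ R.sgOn {i, k}, y r = a r)
    (hgen : XS a (R.sgOn Set.univ) = ⊤) : ∃ (y : ι → K → J) (h : R.IsSt y),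
      (∀ r ∈ R.sgOn Set.univ, y r = a r) ∧ ∀ g, φ g = 1 →
        ∃ c, h₀.toIsSt.tor h₀.toIsSt.hmul_of_finite c = 1 ∧ g = h.tor h.hmul_of_finite c := by
  obtain ⟨y, h1, h⟩ := h₀.exists_isSt_of_loc a hloc
  have h2 : ∀ r ∈ R.sgOn Set.univ, y r = a r := by
    rintro _ ⟨i, -, rfl | rfl⟩
    exacts [(h1 i).1, (h1 i).2]
  have h3 : x₀ = fun r t => φ (y r t) := funext fun r =>
    (h₀.toIsSt.locSt Set.univ).ext ((h.locSt _).map φ) (fun r hr => funext fun t => by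
      rw [h2 r hr, hφ r hr]) r fun m hm => absurd trivial hm
  refine ⟨y, h, h2, fun g hg => ?_⟩
  obtain ⟨c, rfl⟩ := h.exists_tor h.hmul_of_finite (h₀.ker_central h φ (fun r t => by rw [h3])
    (XS_le (fun r hr t => by rw [← h2 r hr]; exact x_mem_XS y (Set.mem_univ r) t)
      (hgen.ge (mem_top g))) hg).1
  subst h3
  exact ⟨c, by rwa [h.map_tor] at hg, rfl⟩

/-! ### The commutator formula from special cases -/

variable (R φ x₀ y) in
/-- `g` permutes the root elements for the roots in `S` as its image does. -/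
structure Eqv (S : Set ι) (g : J) (w : Equiv.Perm ι) (c : ι → K) : Prop where
  mono : R.Mono x₀ (φ g) w c
  mem : ∀ r ∈ S, w r ∈ S
  conj : ∀ r ∈ S, ∀ t, g * y r t * g⁻¹ = y (w r) (c r * t)

theorem Eqv.mul {S : Set ι} {g g' : J} {w w' : Equiv.Perm ι} {c c' : ι → K} (h : Eqv R x₀ y φ S g w c)
    (h' : Eqv R x₀ y φ S g' w' c') : Eqv R x₀ y φ S (g * g') (w * w') fun s => c (w' s) * c' s where
  mono := by rw [map_mul]; exact h.mono.mul h'.mono
  mem r hr := h.mem _ (h'.mem r hr)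
  conj r hr t := by
    rw [Equiv.Perm.mul_apply, mul_assoc (c _), ← h.conj _ (h'.mem r hr), ← h'.conj r hr]
    group

variable (R y) in
/-- The weak commutator relation. -/
def Cm (r s : ι) (t u : K) : Prop := cm (y s u) (y r t) ∈ XS y (R.mid r s)

variable (R y) in
/-- The weak commutator relation holds for generators. -/
def Seed (r s : ι) : Prop :=
  ∀ t ≠ 0, ∀ A : AddSubgroup K, (∀ u, Cm R y r s t u → u ∈ A) → A = ⊤

omit [Field K] in
theorem Cm.symm {r s : ι} {t u : K} (h : Cm R y r s t u) : Cm R y s r u t := by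
  rw [Cm, ← cm_inv, R.mid_comm]; exact inv_mem h

omit [Field K] in
theorem Cm.of_commute {r s : ι} {t u : K} (h : Commute (y s u) (y r t)) : Cm R y r s t u := by
  rw [Cm, cm_eq_one_iff.2 h]; exact one_mem _

theorem Cm.conj {S : Set ι} (hS : R.Closed S) {g : J} {w : Equiv.Perm ι} {c : ι → K}
    (hg : Eqv R x₀ y φ S g w c) {r s : ι} (hr : r ∈ S) (hs : s ∈ S) {t u : K} (h : Cm R y r s t u) :
    Cm R y (w r) (w s) (c r * t) (c s * u) := by
  rw [Cm, ← hg.conj r hr, ← hg.conj s hs, ← conj_cm]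
  exact conj_mem_XS (fun γ hγ v => by
    rw [hg.conj γ (hS r hr s hs hγ)]; exact x_mem_XS _ (hg.mono.aut.mem_mid hγ) _) h

theorem Seed.conj {S : Set ι} (hS : R.Closed S) {g : J} {w : Equiv.Perm ι} {c : ι → K}
    (hg : Eqv R x₀ y φ S g w c) {r s : ι} (hr : r ∈ S) (hs : s ∈ S) (h : Seed R y r s) :
    Seed R y (w r) (w s) := fun t ht A hA => by
  have := h ((c r)⁻¹ * t) (mul_ne_zero (inv_ne_zero (hg.mono.ne_zero r)) ht)
    (A.comap (AddMonoidHom.mulLeft (c s))) fun u hu => hA _ (by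
      have := hu.conj hS hg hr hs
      rwa [mul_inv_cancel_left₀ (hg.mono.ne_zero r)] at this)
  refine top_unique fun u _ => ?_
  have h1 : c s * ((c s)⁻¹ * u) ∈ A := this.ge (AddSubgroup.mem_top ((c s)⁻¹ * u))
  rwa [mul_inv_cancel_left₀ (hg.mono.ne_zero s)] at h1

theorem addSubgroup_eq_top [Finite K] {A : AddSubgroup K} {l : K} (hl : l ≠ 0)
    (h : ∀ d ≠ 0, l * d ^ 2 ∈ A) : A = ⊤ := by
  have h1 : ∀ d, l * d ^ 2 ∈ A := fun d => by
    by_cases e : d = 0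
    · simp [e]
    · exact h d e
  refine top_unique fun u _ => ?_
  obtain ⟨v, w, e⟩ := exists_sq_sub_sq (l⁻¹ * u)
  rw [← mul_inv_cancel_left₀ hl u, e, mul_sub]
  exact sub_mem (h1 v) (h1 w)

theorem seed_of_torus [Finite K] {S : Set ι} (hS : R.Closed S) {r s : ι} (hr : r ∈ S) (hs : s ∈ S)
    (h : Cm R y r s 1 1) (hT : ∀ t : K, t ≠ 0 → ∃ l : K, l ≠ 0 ∧ ∀ d : K, d ≠ 0 →
      ∃ g c, Eqv R x₀ y φ S g 1 c ∧ c r = t ∧ c s = l * d ^ 2) : Seed R y r s := fun t ht A hA => by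
  obtain ⟨l, hl, H⟩ := hT t ht
  refine addSubgroup_eq_top hl fun d hd => hA _ ?_
  obtain ⟨g, c, hg, e1, e2⟩ := H d hd
  simpa [e1, e2] using h.conj hS hg hr hs

theorem mid_subset_mid {r s γ : ι} (h : γ ∈ R.mid r s) : R.mid s γ ⊆ R.mid r s := by
  obtain ⟨i, j, hi, hj, e⟩ := h
  rintro δ ⟨k, l, hk, hl, e'⟩
  exact ⟨l * i, k + l * j, by positivity, by positivity, by rw [e', e]; module⟩

theorem Seed.cm {r s : ι} (h2 : s ≠ R.ng r) (hr : IsAdd y r) (hs : IsAdd y s)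
    (hc : ∀ γ ∈ R.mid r s, R.IsComm y s γ) (h : Seed R y r s) (t u : K) : Cm R y r s t u := by
  by_cases ht : t = 0
  · exact Cm.of_commute (by rw [ht, hr.zero]; exact Commute.one_right _)
  have hn : ∀ u, ∀ g ∈ XS y (R.mid r s), y s u * g * (y s u)⁻¹ ∈ XS y (R.mid r s) := fun u g hg =>
    conj_x_mem_XS hs (fun γ hγ _ => ⟨(R.ne_of_mem_mid h2 hγ).2.2.2, hc γ hγ, mid_subset_mid hγ⟩) u hg
  let A : AddSubgroup K :=
    { carrier := {u | Cm R y r s t u}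
      zero_mem' := Cm.of_commute (by rw [hs.zero]; exact Commute.one_left _)
      add_mem' := fun {a b} ha hb => by
        have := mul_mem (hn (-b) _ ha) hb
        rw [hs.neg] at this
        rw [Set.mem_ofPred_eq, Cm, hs]
        convert this using 1
        simp only [Chev.cm]; group
      neg_mem' := fun {a} ha => by
        have := inv_mem (hn a _ ha)
        rw [Set.mem_ofPred_eq, Cm, hs.neg]
        convert this using 1
        simp only [Chev.cm]; group }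
  exact (h t ht A fun _ h => h).ge (AddSubgroup.mem_top u)

theorem relOn_of_seed [Finite ι] (h₀ : R.IsModel x₀) {S : Set ι} (hS : R.Closed S)
    (hφ : ∀ r ∈ S, ∀ t, φ (y r t) = x₀ r t) (hadd : ∀ r ∈ S, IsAdd y r)
    (h : ∀ r ∈ S, ∀ s ∈ S, s ≠ r → s ≠ R.ng r → Seed R y r s ∨ Seed R y s r) : R.RelOn y S := by
  refine ⟨hadd, fun r hr s hs => ?_⟩
  induction hn : (R.mid r s).ncard using Nat.strong_induction_on generalizing r s with
  | _ n ih =>
  intro h1 h2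
  have key : ∀ a ∈ S, ∀ b ∈ R.mid r s, R.mid a b ⊆ R.mid r s → b ≠ a → b ≠ R.ng a → R.IsComm y a b :=
    fun a ha b hb e n1 n2 => ih _ (hn ▸ Set.ncard_lt_ncard (e.ssubset_of_ne fun e' =>
      (R.ne_of_mem_mid n2 (e' ▸ hb :)).2.1 rfl) (Set.toFinite _)) a ha b (hS r hr s hs hb) rfl n1 n2
  have hcm : ∀ t u, Cm R y r s t u := by
    rcases h r hr s hs h1 h2 with h | h
    · exact h.cm h2 (hadd r hr) (hadd s hs) fun γ hγ => key s hs γ hγ (mid_subset_mid hγ)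
        (R.ne_of_mem_mid h2 hγ).2.1 (R.ne_of_mem_mid h2 hγ).2.2.2
    · refine fun t u => (h.cm (R.ne_ng_comm h2) (hadd s hs) (hadd r hr) (fun γ hγ => ?_) u t).symm
      have e := mid_subset_mid hγ
      rw [R.mid_comm s r] at hγ e
      exact key r hr γ hγ e (R.ne_of_mem_mid h2 hγ).1 (R.ne_of_mem_mid h2 hγ).2.2.1
  obtain ⟨f, hfr, hfs⟩ := R.exists_form_pos h2
  have hm := hS r hr s hs
  intro t u
  refine h₀.eq_of_map φ (S := R.mid r s) (fun γ hγ => hφ γ (hm hγ)) ⟨fun a ha => hadd a (hm ha),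
    fun a ha b hb => key a (hm ha) b hb (R.closed_mid _ _ a ha b hb)⟩ (R.closed_mid _ _) (f := f)
    (fun γ hγ => hfr.trans (R.map_lt_of_mem_mid hγ hfr hfs).1) (hcm t u)
    (stWord_mem_XS (R.cword_mem_mid h1 h2 t u)) ?_
  simp only [map_mul, map_inv, hφ r hr, hφ s hs, map_stWord, h₀.comm r s h1 h2 t u]
  exact congrArg List.prod (List.map_congr_left fun p hp =>
    (hφ _ (hm (R.cword_mem_mid h1 h2 t u p hp)) _).symm)

/-- The relation enforcing the weak commutator relation. -/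
theorem Rels.cm {E : Type*} [Group E] {f : E →* G₀} {y : ι → K → E} (h₀ : R.IsAB x₀) {r s : ι}
    (h1 : s ≠ r) (h2 : s ≠ R.ng r) (hr : ∀ t, f (y r t) = x₀ r t) (hs : ∀ t, f (y s t) = x₀ s t)
    (hm : ∀ γ ∈ R.mid r s, ∀ t, f (y γ t) = x₀ γ t) (t u : K) :
    Rels f 1 fun _ _ π _ => Cm R (fun r t => π (y r t)) r s t u := by
  refine (Rels.mem (a := Chev.cm (y s u) (y r t)) (H := XS y (R.mid r s)) ?_).mono le_rfl
    fun J _ π φ _ h => by rwa [map_XS, map_cm] at h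
  rw [map_XS, map_cm, hr, hs]
  exact XS_le (fun γ hγ v => by rw [← hm γ hγ]; exact x_mem_XS (fun r t => f (y r t)) hγ v)
    ((h₀.comm r s h1 h2).mem h1 h2 t u)

/-- Generation of a rank one subgroup by the conjugates of one element under a torus. -/
theorem rank_one_gen [Finite K] {x : ι → K → J} (h : R.IsSt x) {r δ : ι} (e : R.A δ r = 1) {c : K}
    (c0 : c ≠ 0) (c1 : c ≠ 1) {H : Subgroup J} (hv : R.nn x r 1 * x r 1 ∈ H)
    (hH : ∀ d, d ≠ 0 → ∀ g ∈ H, R.hh x δ d * g * (R.hh x δ d)⁻¹ ∈ H) (t : K) :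
    x r t ∈ H ∧ x (R.ng r) t ∈ H := by
  have hC := h.hmul_of_finite
  have a1 := h.add r
  have a2 := h.add (R.ng r)
  have e1 : ∀ d, d ≠ 0 → ∀ u, R.hh x δ d * x r u * (R.hh x δ d)⁻¹ = x r (d * u) := fun d hd u => by
    rw [h.hh_conj δ r hd, e, zpow_one]
  have e2 : ∀ d, d ≠ 0 → ∀ u, R.hh x δ d * x (R.ng r) u * (R.hh x δ d)⁻¹ = x (R.ng r) (d⁻¹ * u) :=
    fun d hd u => by rw [h.hh_conj δ _ hd, R.A_ng_right, e, zpow_neg_one]
  have e3 : R.hh x δ c * R.nn x r 1 * (R.hh x δ c)⁻¹ = R.hh x r c * R.nn x r 1 := by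
    rw [(h.mono_hh δ c0).conj_nn, Equiv.Perm.one_apply, e, zpow_one, mul_one, nn_eq_hh_mul a1 a2]
  have m1 : R.hh x r c * x (R.ng r) (1 - c) ∈ H := by
    have := mul_mem (hH c c0 _ hv) (inv_mem hv)
    convert this using 1
    have e4 := h.nn_conj_self r one_ne_zero (c - 1)
    rw [show -(1⁻¹ ^ 2 * (c - 1)) = 1 - c by simp, a1.sub, ← mul_one c, ← e1 c c0] at e4
    rw [mul_one] at e4
    rw [← e4, ← mul_assoc, ← mul_assoc, ← e3]
    group
  have m2 : x (R.ng r) ((c⁻¹ - 1) * (1 - c)) ∈ H := by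
    have := mul_mem (inv_mem m1) (hH c c0 _ m1)
    convert this using 1
    rw [sub_mul, one_mul, sub_eq_neg_add, a2, a2.neg, ← e2 c c0, ← mul_assoc (R.hh x δ c),
      (h.hh_comm hC δ r c0 c0).eq]
    group
  have m3 : ∀ t, x (R.ng r) t ∈ H := fun t => by
    by_cases ht : t = 0
    · rw [ht, a2.zero]; exact one_mem _
    have h0 : (c⁻¹ - 1) * (1 - c) ≠ 0 :=
      mul_ne_zero (sub_ne_zero.2 (by simpa using c1)) (sub_ne_zero.2 c1.symm)
    have := hH _ (div_ne_zero h0 ht) _ m2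
    rwa [e2 _ (div_ne_zero h0 ht), inv_div, div_mul_cancel₀ _ h0] at this
  refine ⟨?_, m3 t⟩
  have := mul_mem (mul_mem (inv_mem hv) (m3 (-t))) hv
  have e4 := h.nn_conj_self r one_ne_zero t
  rw [inv_one, one_pow, one_mul] at e4
  rw [← e4] at this
  convert this using 1
  calc x r t = x r (-1 + t + 1) := by congr 1; ring
    _ = _ := by rw [a1, a1, a1.neg]; group

end Cfsg.Agent.Pr
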