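import Mathlib
import Cfsg.Agent.Pres.Rels
import Cfsg.Agent.Ch.EichFrame

/-!
# The special linear group inside the group of a hyperbolic frame
-/

set_option autoImplicit false

namespace Cfsg.Agent.Pr

open Subgroup Function Cfsg.Agent.Ch Cfsg.Agent.Ch.BakForm
open Matrix.SpecialLinearGroup (transvection)

variable {K V : Type*} [Field K] [AddCommGroup V] [Module K V] {F : BakForm K V} {I : Type*}
  [DecidableEq I] (f : F.Frame I)

/-- The subgroup generated by the root elements `x_{e_i - e_j}`, `i, j ∈ S`. -/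
def LX (S : Set I) : Subgroup F.EG :=
  closure {g | ∃ i ∈ S, ∃ j ∈ S, i ≠ j ∧ ∃ t, g = f.X (i, true) (j, true) t}

theorem X_mem_LX {S : Set I} {i j : I} (hi : i ∈ S) (hj : j ∈ S) (h : i ≠ j) (t : K) :
    f.X (i, true) (j, true) t ∈ LX f S := subset_closure ⟨i, hi, j, hj, h, t, rfl⟩

theorem LX_le {S : Set I} {H : Subgroup F.EG}
    (h : ∀ i ∈ S, ∀ j ∈ S, i ≠ j → ∀ t, f.X (i, true) (j, true) t ∈ H) : LX f S ≤ H :=
  (closure_le _).2 (by rintro _ ⟨i, hi, j, hj, e, t, rfl⟩; exact h i hi j hj e t)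

theorem LX_mono {S T : Set I} (h : S ⊆ T) : LX f S ≤ LX f T :=
  LX_le f fun _ hi _ hj e t => X_mem_LX f (h hi) (h hj) e t

theorem exists_rho [Fintype I] {κ : Type*} [Fintype κ] [DecidableEq κ] (e : κ → I × Bool)
    (he : ∀ i j, i ≠ j → (e i).1 ≠ (e j).1) : ∃ ρ : Matrix.SpecialLinearGroup κ K →* F.EG,
      (∀ i j (h : i ≠ j) t, ρ (transvection h t) = f.X (e i) (e j) t) ∧
      ∀ g j, (ρ g).1 (f.v (e j)) = ∑ i, g i j • f.v (e i) := by
  have h1 : ∀ i j, e i = e j ↔ i = j := fun i j =>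
    ⟨fun h => by_contra fun h' => he i j h' (by rw [h]), fun h => by rw [h]⟩
  have h2 : ∀ i j, bar (e i) ≠ e j := fun i j h => by
    by_cases h' : i = j
    · exact bar_ne _ (h' ▸ h)
    · exact he i j h' (by rw [← h]; rfl)
  let Q : Subgroup (Matrix.SpecialLinearGroup κ K × F.EG) :=
    closure {p | ∃ (i j : κ) (h : i ≠ j) (t : K), p = (transvection h t, f.X (e i) (e j) t)}
  let W := Submodule.span K (Set.range fun i => f.v (bar (e i)))
  have hW : ∀ i, f.v (bar (e i)) ∈ W := fun i => Submodule.subset_span ⟨i, rfl⟩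
  have key : ∀ p ∈ Q, (∀ j, p.2.1 (f.v (e j)) = ∑ i, p.1 i j • f.v (e i)) ∧
      (∀ y, (∀ i, f.co (e i) y = 0 ∧ f.co (bar (e i)) y = 0) → p.2.1 y = y) ∧ ∀ y ∈ W, p.2.1 y ∈ W := by
    have gen : ∀ (i j : κ) (h : i ≠ j) (t : K),
        (∀ k, (f.X (e i) (e j) t).1 (f.v (e k)) = ∑ l, transvection h t l k • f.v (e l)) ∧
        (∀ y, (∀ i, f.co (e i) y = 0 ∧ f.co (bar (e i)) y = 0) → (f.X (e i) (e j) t).1 y = y) ∧
        ∀ y ∈ W, (f.X (e i) (e j) t).1 y ∈ W := fun i j h t => by
      have h3 : e i ≠ e j := (h1 i j).not.2 h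
      refine ⟨fun k => ?_, fun y hy => f.X_fix h3 t (hy j).1 (hy i).2, fun y hy => ?_⟩
      · change _ = ∑ l, (1 + Matrix.single i j t : Matrix κ κ K) l k • f.v (e l)
        simp only [f.X_apply h3, f.co_v, h1, h2, Matrix.add_apply, add_smul, Finset.sum_add_distrib,
          Matrix.one_apply, Matrix.single_apply, ite_smul, zero_smul, one_smul, ite_and,
          Finset.sum_ite_eq, Finset.sum_ite_eq', Finset.mem_univ, if_true, if_false, mul_zero,
          sub_zero, mul_ite, mul_one]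
      · have : f.co (e j) y = 0 := by
          refine Submodule.span_induction (p := fun y _ => f.co (e j) y = 0) ?_ (map_zero _)
            (fun a b _ _ ha hb => by rw [map_add, ha, hb, add_zero])
            (fun c a _ ha => by rw [map_smul, ha, smul_zero]) hy
          rintro _ ⟨l, rfl⟩
          exact f.co_of_ne (h2 l j).symm
        rw [f.X_apply h3, this, mul_zero, zero_smul, add_zero]
        exact sub_mem hy (W.smul_mem _ (hW j))
    intro p hp
    induction hp using closure_induction'' with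
    | mem p hp => obtain ⟨i, j, h, t, rfl⟩ := hp; exact gen i j h t
    | inv_mem p hp =>
      obtain ⟨i, j, h, t, rfl⟩ := hp
      rw [Prod.inv_mk, Matrix.SpecialLinearGroup.transvection_inv, ← f.X_neg ((h1 i j).not.2 h)]
      exact gen i j h (-t)
    | one => exact ⟨fun j => by simp [Matrix.one_apply], fun _ _ => rfl, fun _ h => h⟩
    | mul p q _ _ hp hq =>
      refine ⟨fun j => ?_, fun y hy => by rw [Prod.snd_mul, EG_mul_apply, hq.2.1 y hy, hp.2.1 y hy],
        fun y hy => hp.2.2 _ (hq.2.2 y hy)⟩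
      rw [Prod.snd_mul, EG_mul_apply, hq.1, map_sum]
      simp only [map_smul, hp.1, Finset.smul_sum, smul_smul, Prod.fst_mul,
        Matrix.SpecialLinearGroup.coe_mul, Matrix.mul_apply, Finset.sum_smul]
      rw [Finset.sum_comm]
      simp only [mul_comm]
  let π : Q →* Matrix.SpecialLinearGroup κ K := (MonoidHom.fst _ _).comp Q.subtype
  have hb : Bijective π := by
    refine ⟨(injective_iff_map_eq_one _).2 fun ⟨p, hp⟩ h => ?_, ?_⟩
    · obtain ⟨k1, k2, k3⟩ := key p hp
      have h' : p.1 = 1 := h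
      have k4 : ∀ j, p.2.1 (f.v (e j)) = f.v (e j) := fun j => by simp [k1, h', Matrix.one_apply]
      refine Subtype.ext (Prod.ext h' (f.EG_ext (fun a => ?_)
        fun w hw => k2 w fun i => ⟨Frame.co_V0 hw _, Frame.co_V0 hw _⟩))
      by_cases a1 : ∃ j, a = e j
      · obtain ⟨j, rfl⟩ := a1; exact k4 j
      by_cases a2 : ∃ j, a = bar (e j)
      · obtain ⟨j, rfl⟩ := a2
        obtain ⟨c, hc⟩ := (Submodule.mem_span_range_iff_exists_fun K).1 (k3 _ (hW j))
        have : ∀ i, c i = if i = j then 1 else 0 := fun i => by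
          have := congrArg (f.co (bar (e i))) hc
          have h3 := f.co_apply (bar (e i)) (f.v (bar (e j)))
          rw [bar_bar] at h3
          rw [f.co_apply _ (p.2.1 _), bar_bar, ← k4, EG_B, ← h3] at this
          simpa [f.co_v, h1] using this
        rw [← hc]
        simp [this]
      · exact k2 _ fun i => ⟨f.co_of_ne fun h => a1 ⟨i, h.symm⟩, f.co_of_ne fun h => a2 ⟨i, h.symm⟩⟩
    · rw [← MonoidHom.range_eq_top]
      exact Cl.sl_eq_top_of_transvection_mem _ fun i j h c =>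
        ⟨⟨_, subset_closure ⟨i, j, h, c, rfl⟩⟩, rfl⟩
  let ε := MulEquiv.ofBijective π hb
  refine ⟨((MonoidHom.snd _ _).comp Q.subtype).comp ε.symm.toMonoidHom, fun i j h t => ?_, fun g j => ?_⟩
  · have : ε.symm (transvection h t) = ⟨_, subset_closure ⟨i, j, h, t, rfl⟩⟩ := ε.symm_apply_eq.2 rfl
    simp [this]
  · have := (key _ (ε.symm g).2).1 j
    rwa [show (ε.symm g).1.1 = g from ε.apply_symm_apply g] at this

theorem exists_LX_equiv [Fintype I] {κ : Type*} [Fintype κ] [DecidableEq κ] {e : κ → I}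
    (he : Injective e) : Nonempty (Matrix.SpecialLinearGroup κ K ≃* LX f (Set.range e)) := by
  obtain ⟨ρ, h1, h2⟩ := exists_rho f (fun i => (e i, true)) fun i j h => he.ne h
  have hi : Injective ρ := fun g g' h => Cl.sl_ext (Matrix.ext fun i j => by
    have := congrArg (f.co (e i, true)) ((h2 g j).symm.trans (h ▸ h2 g' j))
    simpa [f.co_v, he.eq_iff] using this)
  refine ⟨(MonoidHom.ofInjective hi).trans (MulEquiv.subgroupCongr (le_antisymm ?_ (LX_le f ?_)))⟩
  · rintro _ ⟨g, rfl⟩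
    exact (Cl.sl_eq_top_of_transvection_mem ((LX f (Set.range e)).comap ρ) fun i j h c => by
      rw [mem_comap, h1]; exact X_mem_LX f (Set.mem_range_self i) (Set.mem_range_self j) (he.ne h) c).ge (mem_top g)
  · rintro _ ⟨i, rfl⟩ _ ⟨j, rfl⟩ h t
    exact ⟨_, h1 i j (fun e' => h (by rw [e'])) t⟩

theorem LX_two_gen [Fintype I] [Finite K] {S : Set I} {i j : I} (hi : i ∈ S) (hj : j ∈ S)
    (h : i ≠ j) : ∃ a b : F.EG, Subgroup.closure {a, b} = LX f S := by
  classical
  obtain ⟨e⟩ := exists_LX_equiv f (Subtype.val_injective (p := (· ∈ S)))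
  rw [Subtype.range_coe_subtype] at e
  have : Nontrivial S := ⟨⟨i, hi⟩, ⟨j, hj⟩, fun e => h (congrArg Subtype.val e)⟩
  obtain ⟨a, b, hab⟩ := sl_two_gen (F := K) (ι := S) Fintype.one_lt_card
  refine ⟨e a, e b, ?_⟩
  have := congrArg (Subgroup.map ((LX f S).subtype.comp e.toMonoidHom)) hab
  rwa [MonoidHom.map_closure, Set.image_pair, ← MonoidHom.range_eq_map, MonoidHom.range_comp,
    MonoidHom.range_eq_top.2 e.surjective, ← MonoidHom.range_eq_map, range_subtype] at this

theorem hasPres_LX {n k r : ℕ} (f : F.Frame (Fin n))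
    (h : HasPres (Matrix.SpecialLinearGroup (Fin n) K) k r) : HasPres (LX f Set.univ) k r := by
  obtain ⟨e⟩ := exists_LX_equiv f (injective_id (α := Fin n))
  rw [Set.range_id] at e
  exact h.equiv e

theorem commute_LX {S : Set I} {g : F.EG} (h : ∀ i ∈ S, ∀ b, g.1 (f.v (i, b)) = f.v (i, b)) {x : F.EG}
    (hx : x ∈ LX f S) : Commute g x :=
  LX_le f (H := centralizer {g}) (fun i hi j hj e t => by
    rintro _ rfl
    exact ((f.val_X (by simpa using e) t).commute_of_fix (h i hi _)
      (by rw [map_smul]; exact congrArg _ (h j hj _))).eq) hx g rfl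

end Cfsg.Agent.Pr
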