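import Mathlib
import Cfsg.Agent.Pres.CTLift
import Cfsg.Agent.Pres.EichL
import Cfsg.Agent.Chev.StCD3

/-!
# Lifting functions, rank one subgroups, and the type `A` subgroup for the types `C` and `D`
-/

set_option autoImplicit false

namespace Cfsg.Agent.Pr

open Subgroup Function Cfsg.Agent.Chev Cfsg.Agent.Chev.StRoot Cfsg.Agent.Chev.CD Cfsg.Agent.Ch

section lf

variable {G J J' : Type*} [Group G] [Group J] [Group J'] {L : Subgroup G} (γ : L →* J) {g g' : G}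

open Classical in
/-- A homomorphism on a subgroup as a function on the whole group. -/
noncomputable def lf (g : G) : J := if h : g ∈ L then γ ⟨g, h⟩ else 1

theorem lf_of_mem (h : g ∈ L) : lf γ g = γ ⟨g, h⟩ := dif_pos h

theorem lf_coe (g : L) : lf γ g = γ g := dif_pos g.2

theorem lf_mem_range (g : G) : lf γ g ∈ γ.range := by
  unfold lf; split_ifs
  exacts [⟨_, rfl⟩, one_mem _]

theorem map_lf (π : J →* J') (g : G) : π (lf γ g) = lf (π.comp γ) g := by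
  unfold lf; split_ifs <;> simp

theorem lf_one : lf γ 1 = 1 := by rw [lf_of_mem γ (one_mem L)]; exact map_one γ

theorem lf_mul (h : g ∈ L) (h' : g' ∈ L) : lf γ (g * g') = lf γ g * lf γ g' := by
  rw [lf_of_mem γ h, lf_of_mem γ h', lf_of_mem γ (mul_mem h h'), ← map_mul]; rfl

theorem lf_inv (h : g ∈ L) : lf γ g⁻¹ = (lf γ g)⁻¹ := by
  rw [lf_of_mem γ h, lf_of_mem γ (inv_mem h), ← map_inv]; rfl

theorem lf_pow (h : g ∈ L) (k : ℕ) : lf γ (g ^ k) = lf γ g ^ k := by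
  rw [lf_of_mem γ h, lf_of_mem γ (pow_mem h k), ← map_pow]; rfl

theorem lf_conj (h : g ∈ L) (h' : g' ∈ L) : lf γ (g * g' * g⁻¹) = lf γ g * lf γ g' * (lf γ g)⁻¹ := by
  rw [lf_mul γ (mul_mem h h') (inv_mem h), lf_mul γ h h', lf_inv γ h]

variable {γ} {φ : J →* G}

theorem map_lf_eq (hγ : ∀ l, φ (γ l) = l) (h : g ∈ L) : φ (lf γ g) = g := by rw [lf_of_mem γ h, hγ]

theorem inj_range (hγ : ∀ l, φ (γ l) = l) : ∀ x ∈ γ.range, φ x = 1 → x = 1 := by
  rintro _ ⟨l, rfl⟩ e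
  rw [hγ, OneMemClass.coe_eq_one] at e
  rw [e, map_one]

theorem eq_lf (hγ : ∀ l, φ (γ l) = l) {x : J} (hx : x ∈ γ.range) : x = lf γ (φ x) := by
  obtain ⟨l, rfl⟩ := hx
  rw [hγ, lf_coe]

theorem map_mem_of_range (hγ : ∀ l, φ (γ l) = l) {x : J} (hx : x ∈ γ.range) : φ x ∈ L := by
  obtain ⟨l, rfl⟩ := hx
  rw [hγ]; exact l.2

variable (γ) in
/-- The elements whose lifts lie in `H`. -/
def lfc (H : Subgroup J) : Subgroup G := (H.comap γ).map L.subtype

theorem mem_lfc {H : Subgroup J} : g ∈ lfc γ H ↔ g ∈ L ∧ lf γ g ∈ H :=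
  ⟨by rintro ⟨l, hl, rfl⟩; exact ⟨l.2, by rwa [coe_subtype, lf_coe]⟩,
    fun h => ⟨⟨g, h.1⟩, by rw [SetLike.mem_coe, mem_comap, ← lf_of_mem γ h.1]; exact h.2, rfl⟩⟩

theorem inj_conj {A : Subgroup J} (hA : ∀ x ∈ A, φ x = 1 → x = 1) (τ : J) :
    ∀ x ∈ A.comap (MulAut.conj τ⁻¹).toMonoidHom, φ x = 1 → x = 1 := fun x hx e => by
  simpa [mul_assoc, inv_mul_eq_one] using hA _ hx (by simp [e])

theorem mem_conj {A : Subgroup J} {τ x : J} :
    x ∈ A.comap (MulAut.conj τ⁻¹).toMonoidHom ↔ τ⁻¹ * x * τ ∈ A := by simp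

end lf

theorem three_gen {L G : Type*} [Group L] [Group G] {ψ ψ' : L →* G}
    (hc : ∀ x y, Commute (ψ x) (ψ' y)) {a b : L} (hab : closure {a, b} = ⊤)
    (hn : normalClosure {a} = ⊤) {H : Subgroup G} (h1 : ψ a ∈ H) (h2 : ψ b * ψ' a ∈ H)
    (h3 : ψ' b ∈ H) (x : L) : ψ x ∈ H ∧ ψ' x ∈ H := by
  have key : ∀ c, (∃ d, ψ c * ψ' d ∈ H) → c ∈ normalizer (H.comap ψ : Set L) := by
    rintro c ⟨d, hd⟩
    have e : ∀ z, ψ (c * z * c⁻¹) = ψ c * ψ' d * ψ z * (ψ c * ψ' d)⁻¹ := fun z => by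
      rw [mul_assoc (ψ c), ← (hc z d).eq]; simp [mul_assoc]
    refine mem_normalizer_iff.2 fun z => ?_
    rw [mem_comap, mem_comap, e, mul_mem_cancel_right (inv_mem hd), mul_mem_cancel_left hd]
  have : (H.comap ψ).Normal := normalizer_eq_top_iff.1 (top_unique (hab ▸ (closure_le _).2 (by
    rintro _ (rfl | rfl)
    exacts [key _ ⟨1, by simpa using h1⟩, key _ ⟨_, h2⟩])))
  have h4 : ∀ x, ψ x ∈ H := fun x => (hn ▸ normalClosure_le_normal (by simpa using h1) :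
    ⊤ ≤ H.comap ψ) (mem_top x)
  refine ⟨h4 x, (hab ▸ (closure_le _).2 ?_ : ⊤ ≤ H.comap ψ') (mem_top x)⟩
  rintro _ (rfl | rfl)
  exacts [(mul_mem_cancel_left (h4 _)).1 h2, h3]

theorem sl2_small {K : Type*} [Field K] (h : ∀ c : K, c = 0 ∨ c = 1 ∨ c = -1) :
    closure {GT.slUp (1 : K), GT.slLo 1} = ⊤ := by
  refine GT.eq_top_of_slUp_slLo_mem _ (fun t => ?_) fun t => ?_ <;> rcases h t with rfl | rfl | rfl
  exacts [by simp, subset_closure (by simp), GT.slUp_neg (1 : K) ▸ inv_mem (subset_closure (by simp)),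
    by simp, subset_closure (by simp), GT.slLo_neg (1 : K) ▸ inv_mem (subset_closure (by simp))]

theorem sl2_gen_ncl (K : Type*) [Field K] [Finite K] :
    ∃ a b : Matrix.SpecialLinearGroup (Fin 2) K, closure {a, b} = ⊤ ∧ normalClosure {a} = ⊤ := by
  by_cases h : ∃ c : K, c ≠ 0 ∧ c ^ 2 ≠ 1
  · obtain ⟨a, b, hab⟩ := sl_two_gen (F := K) (ι := Fin 2) (by simp)
    exact ⟨a, b, hab, mem_normalClosure_of_perfect hab (Cl.sl_commutator_eq_top (Or.inr h))⟩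
  have key := sl2_small (K := K) fun c => by
    by_contra! h'
    exact h ⟨c, h'.1, fun e => (sq_eq_one_iff.1 e).elim h'.2.1 h'.2.2⟩
  refine ⟨_, _, key, top_unique (key ▸ (closure_le _).2 ?_)⟩
  rintro _ (rfl | rfl)
  · exact subset_normalClosure rfl
  · have := (Tim.sl2Rel K).w_x 1 one_ne_zero (-1)
    rw [one_pow, div_one, neg_neg, GT.slUp_neg] at this
    rw [SetLike.mem_coe, ← this]
    exact normalClosure_normal.conj_mem _ (inv_mem (subset_normalClosure (Set.mem_singleton _))) _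

/-- A two generator subgroup is normalized. -/
theorem Rels.norm {E G : Type*} [Group E] [Group G] {f : E →* G} {L : Subgroup G} {γ : L →* E}
    (hγ : ∀ l, f (γ l) = l) (h2 : ∃ a b : G, Subgroup.closure {a, b} = L) {g : E}
    (hg : ∀ l ∈ L, f g * l * (f g)⁻¹ ∈ L) : Rels f 2 fun _ _ π _ =>
      ∀ x ∈ (π.comp γ).range, π g * x * (π g)⁻¹ ∈ (π.comp γ).range := by
  obtain ⟨a, b, hab⟩ := h2
  have hm : ∀ l ∈ [a, b], l ∈ L := fun l hl => hab ▸ subset_closure (by simpa using hl)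
  refine (Rels.forall [a, b] fun l hl => Rels.mem (a := g * lf γ l * g⁻¹) (H := γ.range)
    ⟨_, lf_mem_range γ (f g * l * (f g)⁻¹), by
      simp [map_lf_eq hγ (hg l (hm l hl)), map_lf_eq hγ (hm l hl)]⟩).mono le_rfl fun J _ π φ _ H => ?_
  rintro _ ⟨l, rfl⟩
  have : L ≤ lfc (π.comp γ) ((π.comp γ).range.comap (MulAut.conj (π g)).toMonoidHom) :=
    hab.ge.trans ((closure_le _).2 fun l hl => mem_lfc.2 ⟨hm l (by simpa using hl), by
      simpa [← map_lf, MonoidHom.range_comp] using H l (by simpa using hl)⟩)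
  simpa [lf_coe] using (mem_lfc.1 (this l.2)).2

/-- Finitely generated subgroups of two lifted subgroups commute. -/
theorem Rels.comm_lf {E G : Type*} [Group E] [Group G] {f : E →* G} {L L' : Subgroup G} {γ : L →* E}
    {γ' : L' →* E} (hγ : ∀ l, f (γ l) = l) (hγ' : ∀ l, f (γ' l) = l) (l l' : List G)
    (hl : ∀ a ∈ l, a ∈ L) (hl' : ∀ a ∈ l', a ∈ L') (τ : E)
    (h : ∀ a ∈ l, ∀ b ∈ l', Commute a (f τ * b * (f τ)⁻¹)) :
    Rels f (l.length * l'.length) fun _ _ π _ => ∀ a ∈ closure {x | x ∈ l}, ∀ b ∈ closure {x | x ∈ l'},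
      Commute (lf (π.comp γ) a) (π τ * lf (π.comp γ') b * (π τ)⁻¹) := by
  refine (Rels.forall l fun a ha => Rels.forall l' fun b hb => Rels.commute (a := lf γ a)
    (b := τ * lf γ' b * τ⁻¹) (by
      simpa [map_lf_eq hγ (hl a ha), map_lf_eq hγ' (hl' b hb)] using h a ha b hb)).mono (by simp)
    fun J _ π φ _ H a ha b hb => ?_
  have h1 : ∀ b ∈ l', Commute (lf (π.comp γ) a) (π τ * lf (π.comp γ') b * (π τ)⁻¹) := fun b hb =>
    ((mem_lfc.1 ((closure_le (lfc (π.comp γ) (centralizer {_}))).2 (fun a ha => mem_lfc.2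
      ⟨hl a ha, by rintro _ rfl; simpa [map_lf] using (H a ha b hb).symm.eq⟩) ha)).2 _ rfl).symm
  exact (mem_lfc.1 ((closure_le (lfc (π.comp γ') ((centralizer {_}).comap
    (MulAut.conj (π τ)).toMonoidHom))).2 (fun b hb => mem_lfc.2
      ⟨hl' b hb, by rintro _ rfl; exact (h1 b hb).eq⟩) hb)).2 _ rfl

section rank1

variable {ι Nd M : Type} [AddCommGroup M] [Fintype Nd] {K : Type*} [Field K] {G : Type*} [Group G]
  {R : StRoot ι Nd M} {x : ι → K → G}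

omit [Field K] in
theorem commute_XS {S T : Set ι} (h : ∀ r ∈ S, ∀ s ∈ T, ∀ t u, Commute (x r t) (x s u)) {a b : G}
    (ha : a ∈ XS x S) (hb : b ∈ XS x T) : Commute a b := by
  rw [XS_eq_closure] at ha hb
  refine commute_of_closure ?_ ha hb
  rintro _ ⟨r, hr, t, rfl⟩ _ ⟨s, hs, u, rfl⟩
  exact h r hr s hs t u

theorem exists_sl2_hom [Finite K] (h : R.IsSt x) (r : ι) :
    ∃ ψ : Matrix.SpecialLinearGroup (Fin 2) K →* G, (∀ t, ψ (GT.slUp t) = x r t) ∧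
      (∀ t, ψ (GT.slLo t) = x (R.ng r) t) ∧ ψ.range = XS x {r, R.ng r} := by
  have h1 : Tim.SL2Rel (x r) (x (R.ng r)) := ⟨h.add r, h.add _, fun t ht u => by
    rw [div_eq_inv_mul, ← inv_pow]; exact h.nn_conj_self r ht u, fun t ht u => h.nn_conj_ng r ht u⟩
  obtain ⟨ψ, h2, h3⟩ := h1.exists_hom fun t u ht hu => h1.h_mul_of_finite ht hu
  refine ⟨ψ, h2, h3, le_antisymm ?_ (XS_le ?_)⟩
  · rintro _ ⟨g, rfl⟩
    exact (GT.eq_top_of_slUp_slLo_mem ((XS x {r, R.ng r}).comap ψ)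
      (fun t => by rw [mem_comap, h2]; exact x_mem_XS x (by simp) t)
      fun t => by rw [mem_comap, h3]; exact x_mem_XS x (by simp) t).ge (mem_top g)
  · rintro _ (rfl | rfl) t
    exacts [⟨_, h2 t⟩, ⟨_, h3 t⟩]

theorem XS_two_gen [Finite K] (h : R.IsSt x) (r : ι) :
    ∃ a b : G, Subgroup.closure {a, b} = XS x {r, R.ng r} := by
  obtain ⟨ψ, -, -, e⟩ := exists_sl2_hom h r
  obtain ⟨a, b, hab, -⟩ := sl2_gen_ncl K
  exact ⟨ψ a, ψ b, by rw [← Set.image_pair, ← MonoidHom.map_closure, hab, ← e, MonoidHom.range_eq_map]⟩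

/-- Generators for a product of two commuting rank one subgroups. -/
theorem XS_prod_gen [Finite K] (h : R.IsSt x) {r s : ι}
    (hc : ∀ a ∈ XS x {r, R.ng r}, ∀ b ∈ XS x {s, R.ng s}, Commute a b) : ∃ l : List G,
      (l.length ≤ 3 ∧ ((∀ c : K, c = 0 ∨ c = 1) → l.length ≤ 2)) ∧
      closure {x | x ∈ l} = XS x {r, R.ng r} ⊔ XS x {s, R.ng s} := by
  obtain ⟨ψ, u1, u2, e⟩ := exists_sl2_hom h r
  obtain ⟨ψ', u3, u4, e'⟩ := exists_sl2_hom h s
  have hc' : ∀ a b, Commute (ψ a) (ψ' b) := fun a b => hc _ (e ▸ ⟨a, rfl⟩) _ (e' ▸ ⟨b, rfl⟩)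
  have m1 : ∀ a, ψ a ∈ ψ.range ⊔ ψ'.range := fun a => mem_sup_left ⟨a, rfl⟩
  have m2 : ∀ a, ψ' a ∈ ψ.range ⊔ ψ'.range := fun a => mem_sup_right ⟨a, rfl⟩
  rw [← e, ← e']
  suffices ∃ l : List G, (l.length ≤ 3 ∧ ((∀ c : K, c = 0 ∨ c = 1) → l.length ≤ 2)) ∧
      (∀ z ∈ l, z ∈ ψ.range ⊔ ψ'.range) ∧ ∀ a, ψ a ∈ closure {x | x ∈ l} ∧ ψ' a ∈ closure {x | x ∈ l} by
    obtain ⟨l, h1, h2, h3⟩ := this
    exact ⟨l, h1, le_antisymm ((closure_le _).2 h2) (sup_le (by rintro _ ⟨a, rfl⟩; exact (h3 a).1)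
      (by rintro _ ⟨a, rfl⟩; exact (h3 a).2))⟩
  by_cases hK : ∀ c : K, c = 0 ∨ c = 1
  · have hab := sl2_small (K := K) fun c => (hK c).imp_right Or.inl
    have h2 : (1 + 1 : K) = 0 := (hK _).resolve_right (by simp)
    generalize ha : GT.slUp (1 : K) = a at hab
    generalize hb : GT.slLo (1 : K) = b at hab
    have a2 : a ^ 3 = a := by rw [← ha, GT.slUp_pow]; congr 1; linear_combination h2
    have a3 : (a * b) ^ 3 = 1 := by
      rw [← ha, ← hb]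
      ext i j
      fin_cases i <;> fin_cases j <;> simp [pow_succ, Matrix.mul_apply, Fin.sum_univ_two, h2]
    refine ⟨[ψ a * ψ' (a * b), ψ (a * b) * ψ' a], ⟨by simp, fun _ => le_rfl⟩, by
      simp only [List.forall_mem_cons, mul_mem, m1, m2]; simp, fun g => ?_⟩
    generalize hH : Subgroup.closure (_ : Set G) = H
    have k1 : ψ a * ψ' (a * b) ∈ H := hH ▸ Subgroup.subset_closure (by simp)
    have k2 : ψ (a * b) * ψ' a ∈ H := hH ▸ Subgroup.subset_closure (by simp)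
    have k3 := pow_mem k1 3
    have k4 := pow_mem k2 3
    rw [(hc' _ _).mul_pow, ← map_pow, ← map_pow, a2, a3, map_one] at k3 k4
    rw [mul_one] at k3
    rw [one_mul] at k4
    rw [mul_mem_cancel_left k3, map_mul, mul_mem_cancel_left k4] at k1
    rw [mul_mem_cancel_right k4, map_mul, mul_mem_cancel_left k3] at k2
    exact ⟨(hab ▸ (closure_le _).2 (by rintro _ (rfl | rfl) <;> assumption) : ⊤ ≤ H.comap ψ) (mem_top g),
      (hab ▸ (closure_le _).2 (by rintro _ (rfl | rfl) <;> assumption) : ⊤ ≤ H.comap ψ') (mem_top g)⟩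
  · obtain ⟨a, b, hab, hn⟩ := sl2_gen_ncl K
    exact ⟨[ψ a, ψ b * ψ' a, ψ' b], ⟨le_rfl, fun h => absurd h hK⟩, by
      simp only [List.forall_mem_cons, mul_mem, m1, m2]; simp, three_gen hc' hab hn
        (subset_closure (by simp)) (subset_closure (by simp)) (subset_closure (by simp))⟩

end rank1

section CD

variable {K V : Type*} [Field K] [AddCommGroup V] [Module K V] {F : BakForm K V} {m : ℕ} {c : Bool}

variable (c) in
/-- The roots `e_i - e_j`, `i, j ∈ S`. -/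
def AS {n : ℕ} (S : Set (Fin n)) : Set (Rt c n) :=
  {r | r.1.1.2 = true ∧ r.1.2.2 = true ∧ r.1.1.1 ∈ S ∧ r.1.2.1 ∈ S}

theorem XS_AS {n : ℕ} (h : IsCD F c) (f : F.Frame (Fin n)) (S : Set (Fin n)) :
    XS (h.xE f) (AS c S) = LX f S := by
  have key : ∀ i j (e : Can c (i, true) (j, true)) t, h.xE f ⟨(_, _), e⟩ t = f.X (i, true) (j, true) t :=
    fun i j e t => Subtype.ext (h.Z_eq_X f e.adm.ne (by simp [bar]) t)
  refine le_antisymm (XS_le ?_) (LX_le f fun i hi j hj e t => ?_)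
  · rintro ⟨⟨⟨i, a⟩, j, b⟩, e⟩ ⟨rfl, rfl, h1, h2⟩ t
    rw [key]
    exact X_mem_LX f h1 h2 (by simpa using e.adm.ne) t
  · rw [← key i j (e.lt_or_gt.elim (fun h => Or.inl ⟨h, rfl⟩) fun h => Or.inr (Or.inl ⟨h, rfl⟩))]
    exact x_mem_XS _ (S := AS c S) ⟨rfl, rfl, hi, hj⟩ t

theorem ng_mem_AS {S : Set (Fin (m + 2))} {r : Rt c (m + 2)} (h : r ∈ AS c S) : (st c m).ng r ∈ AS c S :=
  ⟨h.2.1, h.1, h.2.2.2, h.2.2.1⟩

theorem sr_mem_AS {S : Set (Fin (m + 2))} {k : Fin (m + 2)} (h : (k : ℕ) < m + 1) (h1 : k ∈ S)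
    (h2 : ⟨k + 1, by omega⟩ ∈ S) : (st c m).sr k ∈ AS c S := by
  have : ((st c m).sr k).1 = _ := sr_of_lt h
  simp [AS, this, h1, h2]

theorem sgOn_subset_AS : (st c m).sgOn {k | (k : ℕ) < m + 1} ⊆ AS c Set.univ := by
  rintro _ ⟨k, hk, rfl | rfl⟩
  exacts [sr_mem_AS hk trivial trivial, ng_mem_AS (sr_mem_AS hk trivial trivial)]

theorem LX_univ (h : IsCD F c) (f : F.Frame (Fin (m + 2))) :
    LX f Set.univ = XS (h.xE f) ((st c m).sgOn {k | (k : ℕ) < m + 1}) := by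
  rw [← XS_AS h]
  refine le_antisymm ((XS_mono _ ?_).trans ((h.isModel f).toIsSt.XS_supp _).le)
    (XS_mono _ sgOn_subset_AS)
  rintro r ⟨h1, h2, -⟩ k hk
  have : (k : ℕ) = m + 1 := by have := k.2; simp at hk; omega
  simp [st, co2, h1, h2, this]

theorem commute_xE {n : ℕ} (h : IsCD F c) (f : F.Frame (Fin n)) {r s : Rt c n} (h1 : r.1.1.1 ≠ s.1.1.1)
    (h2 : r.1.1.1 ≠ s.1.2.1) (h3 : r.1.2.1 ≠ s.1.1.1) (h4 : r.1.2.1 ≠ s.1.2.1) (t u : K) :
    Commute (h.xE f r t) (h.xE f s u) :=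
  Subtype.ext ((bf f).Z_commute r.2.adm.ne s.2.adm.ne (fun e => h3 (congrArg Prod.fst e))
    (fun e => h4 (congrArg Prod.fst e :)) (fun e => h1 (congrArg Prod.fst e :))
    (fun e => h2 (congrArg Prod.fst e)) t u).eq

theorem hasPres_long [Finite K] (h : IsCD F c) (f : F.Frame (Fin (m + 2))) {r : Rt c (m + 2)}
    (hr : r.1.2 = bar r.1.1) : HasPres (XS (h.xE f) {r, (st c m).ng r}) 3 8 := by
  obtain ⟨ψ, h1, h2, e⟩ := exists_sl2_hom (h.isModel f).toIsSt r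
  let u : Fin 2 → SI (m + 2) := ![r.1.1, r.1.2]
  have key : ∀ g ∈ Subgroup.closure (Set.range GT.slUp ∪ Set.range GT.slLo),
      ∀ j, (ψ g).1 (f.v (u j)) = ∑ i, g i j • f.v (u i) := by
    have k1 : ∀ t j, (ψ (GT.slUp t)).1 (f.v (u j)) = ∑ i, GT.slUp t i j • f.v (u i) := fun t j => by
      rw [h1]
      change (bf f).Z c _ _ t ((bf f).v _) = _
      rw [BF.Z_apply _ r.2.adm.ne]
      fin_cases j <;> simp [f.co_v, kp, hr, u, bf, add_comm]
    have k2 : ∀ t j, (ψ (GT.slLo t)).1 (f.v (u j)) = ∑ i, GT.slLo t i j • f.v (u i) := fun t j => by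
      rw [h2]
      change (bf f).Z c r.1.2 r.1.1 t ((bf f).v _) = _
      rw [BF.Z_apply _ r.2.adm.ne.symm]
      fin_cases j <;> simp [f.co_v, kp, hr, u, bf]
    intro g hg
    induction hg using closure_induction'' with
    | mem g hg => rcases hg with ⟨t, rfl⟩ | ⟨t, rfl⟩; exacts [k1 t, k2 t]
    | inv_mem g hg =>
      rcases hg with ⟨t, rfl⟩ | ⟨t, rfl⟩
      exacts [GT.slUp_neg t ▸ k1 _, GT.slLo_neg t ▸ k2 _]
    | one => intro j; simp [Matrix.one_apply]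
    | mul p q _ _ hp hq =>
      intro j
      rw [map_mul, BakForm.EG_mul_apply, hq, map_sum]
      simp only [map_smul, hp, Finset.smul_sum, smul_smul,
        Matrix.SpecialLinearGroup.coe_mul, Matrix.mul_apply, Finset.sum_smul]
      rw [Finset.sum_comm]
      simp only [mul_comm]
  rw [GT.eq_top_of_slUp_slLo_mem (closure _) (fun t => subset_closure (Or.inl ⟨t, rfl⟩))
    fun t => subset_closure (Or.inr ⟨t, rfl⟩)] at key
  have hi : Injective ψ := fun g g' e => Cl.sl_ext (Matrix.ext fun i j => by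
    have := congrArg (f.co (u i)) ((key g trivial j).symm.trans (e ▸ key g' trivial j))
    fin_cases i <;> simpa [f.co_v, u, hr] using this)
  exact hasPres_sl2.equiv ((MonoidHom.ofInjective hi).trans (MulEquiv.subgroupCongr e))

end CD

end Cfsg.Agent.Pr
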