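import Mathlib
import Cfsg.Agent.Pres.CDBase

/-!
# A rank two Steinberg system of type `B₂` from two rank one subgroups and eleven relations
-/

set_option autoImplicit false

namespace Cfsg.Agent.Pr

open Subgroup Function Cfsg.Agent.Chev Cfsg.Agent.Chev.StRoot

variable {ι Nd M : Type} [AddCommGroup M] [Fintype Nd] {K : Type*} [Field K] {J G₀ : Type*} [Group J]
  [Group G₀] {R : StRoot ι Nd M} {x₀ : ι → K → G₀} {y : ι → K → J} {φ : J →* G₀}

theorem mem_of_eq' {H : Subgroup J} {a b : J} (e : a = b) (h : b ∈ H) : a ∈ H := e ▸ h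

theorem eqv_of_sub {S : Set ι} {H : ι → Subgroup J} (hH : ∀ r ∈ S, ∀ x ∈ H r, φ x = 1 → x = 1)
    (hy : ∀ r ∈ S, ∀ t, y r t ∈ H r ∧ φ (y r t) = x₀ r t) {g : J} {w : Equiv.Perm ι} {c : ι → K}
    (hm : R.Mono x₀ (φ g) w c) (hw : ∀ r ∈ S, w r ∈ S)
    (hg : ∀ r ∈ S, ∀ x ∈ H r, g * x * g⁻¹ ∈ H (w r)) : Eqv R x₀ y φ S g w c :=
  ⟨hm, hw, fun r hr t => eq_of_map_eq (hH _ (hw r hr)) (hg r hr _ (hy r hr t).1) (hy _ (hw r hr) _).1
    (by simp [(hy r hr t).2, (hy _ (hw r hr) _).2, hm.conj])⟩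

variable (R) in
/-- The subgroups containing the root elements. -/
def b2H (α β : ι) (A C : Subgroup J) (w n : J) (r : ι) : Subgroup J :=
  if R.A α r = 0 then A.comap (MulAut.conj n⁻¹).toMonoidHom
  else if R.A β r = 0 then C.comap (MulAut.conj w⁻¹).toMonoidHom else if R.A β r ^ 2 = 4 then C else A

theorem b2H_ng (α β : ι) (A C : Subgroup J) (w n : J) (r : ι) :
    b2H R α β A C w n (R.ng r) = b2H R α β A C w n r := by simp [b2H, R.A_ng_right]

theorem map_mem_b2H {J' : Type*} [Group J'] (π : J →* J') {α β : ι} {A C : Subgroup J} {w n : J} {r : ι}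
    {x : J} (h : x ∈ b2H R α β A C w n r) : π x ∈ b2H R α β (A.map π) (C.map π) (π w) (π n) r := by
  unfold b2H at h ⊢
  split_ifs at h ⊢
  exacts [mem_conj.2 (by simpa using mem_map_of_mem π (mem_conj.1 h)),
    mem_conj.2 (by simpa using mem_map_of_mem π (mem_conj.1 h)), mem_map_of_mem π h, mem_map_of_mem π h]

variable {i k : Nd} (h1 : R.A (R.sr i) (R.sr k) = -2) (h2 : R.A (R.sr k) (R.sr i) = -1)
include h1 h2

theorem b2_ind {P : ι → Prop} (hng : ∀ r, P r → P (R.ng r)) (ha : P (R.sr i)) (hb : P (R.sr k))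
    (hc : P (R.refl (R.sr k) (R.sr i))) (hd : P (R.refl (R.sr i) (R.sr k))) :
    ∀ r ∈ R.supp {i, k}, P r := by
  have e1 : R.refl (R.sr i) (R.refl (R.sr k) (R.sr i)) = R.refl (R.sr k) (R.sr i) :=
    R.refl_eq_self (by rw [A_refl_right', h1, h2, R.A_self]; rfl)
  have e2 : R.refl (R.sr k) (R.refl (R.sr i) (R.sr k)) = R.refl (R.sr i) (R.sr k) :=
    R.refl_eq_self (by rw [A_refl_right', h1, h2, R.A_self]; rfl)
  have key : ∀ V : List Nd, (∀ j ∈ V, j ∈ ({i, k} : Set Nd)) → ∀ j ∈ ({i, k} : Set Nd),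
      ∃ s ∈ [R.sr i, R.sr k, R.refl (R.sr k) (R.sr i), R.refl (R.sr i) (R.sr k)],
        R.wd V (R.sr j) = s ∨ R.wd V (R.sr j) = R.ng s := fun V hV j hj => by
    induction V with
    | nil => rcases hj with rfl | rfl <;> simp [wd_nil]
    | cons l V ih =>
      obtain ⟨s, hs, e⟩ := ih fun j hj => hV j (List.mem_cons_of_mem _ hj)
      simp only [List.mem_cons, List.not_mem_nil, or_false] at hs
      rw [wd_cons, Equiv.Perm.mul_apply]
      rcases hV l List.mem_cons_self with rfl | rfl <;> rcases hs with rfl | rfl | rfl | rfl <;>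
        rcases e with e | e <;> simp [e, e1, e2, R.refl_self, R.refl_ng_right, R.refl_refl, R.ng_ng]
  intro r hr
  obtain ⟨V, j, hV, hj, rfl⟩ := exists_wd_sr_of_mem_supp hr
  obtain ⟨s, hs, e⟩ := key V hV j hj
  have : P s := by
    simp only [List.mem_cons, List.not_mem_nil, or_false] at hs
    rcases hs with rfl | rfl | rfl | rfl <;> assumption
  rcases e with e | e <;> rw [e]
  exacts [this, hng s this]

theorem b2_A : R.A (R.sr i) (R.refl (R.sr k) (R.sr i)) = 0 ∧ R.A (R.sr k) (R.refl (R.sr k) (R.sr i)) = 1 ∧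
    R.A (R.sr i) (R.refl (R.sr i) (R.sr k)) = 2 ∧ R.A (R.sr k) (R.refl (R.sr i) (R.sr k)) = 0 :=
  ⟨by rw [A_refl_right', h1, h2, R.A_self]; rfl, by rw [R.A_refl_right, h2]; rfl,
    by rw [R.A_refl_right, h1]; rfl, by rw [A_refl_right', h1, h2, R.A_self]; rfl⟩

theorem b2H_eq (A C : Subgroup J) (w n : J) : b2H R (R.sr i) (R.sr k) A C w n (R.sr i) = A ∧
    b2H R (R.sr i) (R.sr k) A C w n (R.sr k) = C ∧
    b2H R (R.sr i) (R.sr k) A C w n (R.refl (R.sr k) (R.sr i)) = A.comap (MulAut.conj n⁻¹).toMonoidHom ∧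
    b2H R (R.sr i) (R.sr k) A C w n (R.refl (R.sr i) (R.sr k)) = C.comap (MulAut.conj w⁻¹).toMonoidHom := by
  obtain ⟨a1, a2, a3, a4⟩ := b2_A h1 h2
  simp [b2H, h1, h2, a1, a3, a4, R.A_self]

theorem locSt_B2 [Finite ι] [Finite K] (h₀ : R.IsModel x₀) (hd : R.LocDec) {A C : Subgroup J}
    (hA : ∀ x ∈ A, φ x = 1 → x = 1) (hC : ∀ x ∈ C, φ x = 1 → x = 1) {w n : J} (hw : w ∈ A)
    (φw : φ w = R.nn x₀ (R.sr i) 1) (hn : n ∈ C) (φn : φ n = R.nn x₀ (R.sr k) 1)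
    (hy : ∀ r ∈ R.supp {i, k}, ∀ t, y r t ∈ b2H R (R.sr i) (R.sr k) A C w n r ∧ φ (y r t) = x₀ r t)
    (r1 : ∀ a ∈ C, ∀ b ∈ C, Commute a (w * b * w⁻¹))
    (r2 : ∀ c, c ≠ 0 → ∃ d ∈ C, φ d = R.hh x₀ (R.sr k) c ∧ ∀ a ∈ A, d * a * d⁻¹ ∈ A)
    (r4 : ∀ a ∈ A, n⁻¹ * w * n * a * (n⁻¹ * w * n)⁻¹ ∈ A)
    (r5 : ∀ s ∈ [R.sr k, R.refl (R.sr k) (R.sr i), R.refl (R.sr i) (R.sr k)], Cm R y (R.sr i) s 1 1) :
    R.LocSt {i, k} y := by
  have ind := fun {P : ι → Prop} => b2_ind (P := P) h1 h2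
  obtain ⟨a1, a2, a3, a4⟩ := b2_A h1 h2
  obtain ⟨H1, H2, H3, H4⟩ := b2H_eq h1 h2 A C w n
  set α := R.sr i with hα
  set β := R.sr k with hβ
  have h := h₀.toIsSt
  have hM := h.hmul_of_finite
  have mα : α ∈ R.supp {i, k} := sr_mem_supp_left i k
  have mβ : β ∈ R.supp {i, k} := sr_mem_supp_right i k
  set H := b2H R α β A C w n with hH
  have Hn : ∀ r, H (R.ng r) = H r := b2H_ng _ _ _ _ _ _
  have inj : ∀ r ∈ R.supp {i, k}, ∀ x ∈ H r, φ x = 1 → x = 1 :=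
    ind (fun r hr => by rwa [Hn]) (H1 ▸ hA) (H2 ▸ hC) (H3 ▸ inj_conj hA n) (H4 ▸ inj_conj hC w)
  have eqv : ∀ {g v c}, R.Mono x₀ (φ g) v c → (∀ r ∈ R.supp {i, k}, v r ∈ R.supp {i, k}) →
      (∀ x ∈ A, g * x * g⁻¹ ∈ H (v α)) → (∀ x ∈ C, g * x * g⁻¹ ∈ H (v β)) →
      (∀ x ∈ A, g * (n * x * n⁻¹) * g⁻¹ ∈ H (v (R.refl β α))) →
      (∀ x ∈ C, g * (w * x * w⁻¹) * g⁻¹ ∈ H (v (R.refl α β))) → Eqv R x₀ y φ (R.supp {i, k}) g v c :=
    fun hm hv k1 k2 k3 k4 => eqv_of_sub inj hy hm hv (ind (fun r hr => by rwa [hm.aut.ng, Hn, Hn])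
      (H1 ▸ k1) (H2 ▸ k2) (fun x hx => mem_of_eq' (by group) (k3 _ (mem_conj.1 (H3 ▸ hx))))
      fun x hx => mem_of_eq' (by group) (k4 _ (mem_conj.1 (H4 ▸ hx))))
  choose! D dC φD dA using r2
  have d1 : ∀ c, c ≠ 0 → (D c)⁻¹ = D c⁻¹ := fun c hc => eq_of_map_eq hC (inv_mem (dC c hc))
    (dC _ (inv_ne_zero hc)) (by rw [map_inv, φD c hc, φD _ (inv_ne_zero hc), h.hh_inv hM _ hc])
  have d2 : ∀ c, c ≠ 0 → n * D c * n⁻¹ = (D c)⁻¹ := fun c hc => eq_of_map_eq hC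
    (mul_mem (mul_mem hn (dC c hc)) (inv_mem hn)) (inv_mem (dC c hc)) (by
      simp only [map_mul, map_inv, φn, φD c hc]
      rw [(h.mono_nn β one_ne_zero).conj_hh_of_hmul h hM _ hc, R.refl_self, h.hh_ng_of_hmul hM _ hc])
  have d3 : n * n = D (-1) := eq_of_map_eq hC (mul_mem hn hn) (dC _ (by simp)) (by
    rw [map_mul, φn, φD _ (by simp), nn_mul_nn (h.add _) (h.add _), hh_one (h.add _) (h.add _), one_mul,
      ← h.hh_inv hM _ (by simp), inv_neg_one])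
  let T : K → J := fun c => w * D c * w⁻¹ * (D c)⁻¹
  have tA : ∀ c, c ≠ 0 → T c ∈ A := fun c hc => by
    exact mem_of_eq' (by simp only [T]; group) (mul_mem hw (dA c hc _ (inv_mem hw)))
  have φT : ∀ c, c ≠ 0 → φ (T c) = R.hh x₀ α c := fun c hc => by
    simp only [T, map_mul, map_inv, φw, φD c hc]
    rw [(h.mono_nn α one_ne_zero).conj_hh_of_hmul h hM _ hc, h.hh_refl hM α β hc, h2]
    group
  have t1 : ∀ c, c ≠ 0 → ∀ x ∈ C, T c * x * (T c)⁻¹ ∈ C := fun c hc x hx => by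
    have := mul_mem (mul_mem (inv_mem (dC c hc)) hx) (dC c hc)
    refine mem_of_eq' ?_ this
    calc _ = w * D c * w⁻¹ * ((D c)⁻¹ * x * D c) * (w * D c * w⁻¹)⁻¹ := by simp only [T]; group
      _ = _ := by rw [← (r1 _ this _ (dC c hc)).eq, mul_inv_cancel_right]
  have t2 : ∀ c, c ≠ 0 → w⁻¹ * T c * w = T c⁻¹ := fun c hc => eq_of_map_eq hA
    (mul_mem (mul_mem (inv_mem hw) (tA c hc)) hw) (tA _ (inv_ne_zero hc)) (by
      simp only [map_mul, map_inv, φw, φT c hc, φT _ (inv_ne_zero hc)]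
      rw [← inv_inv (R.hh x₀ α c), ← h.hh_inv hM _ hc, ← h.hh_ng_of_hmul hM _ (inv_ne_zero hc),
        ← R.refl_self, ← (h.mono_nn α one_ne_zero).conj_hh_of_hmul h hM _ (inv_ne_zero hc)]
      group)
  have t3 : w * w = T (-1) := eq_of_map_eq hA (mul_mem hw hw) (tA _ (by simp)) (by
    rw [map_mul, φw, φT _ (by simp), nn_mul_nn (h.add _) (h.add _), hh_one (h.add _) (h.add _), one_mul,
      ← h.hh_inv hM _ (by simp), inv_neg_one])
  have t4 : ∀ c, c ≠ 0 → n⁻¹ * T c * n = T c * D c * D c := fun c hc => by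
    calc n⁻¹ * T c * n = n⁻¹ * (w * D c * w⁻¹) * (n * D c * n⁻¹) * n := by rw [d2 c hc]; simp only [T]; group
      _ = _ := by rw [(r1 _ (inv_mem hn) _ (dC c hc)).eq]; simp only [T]; group
  have ew := eqv (g := w) (φw ▸ h.mono_nn α one_ne_zero) (fun r hr => refl_mem_supp mα hr)
    (fun x hx => by rw [R.refl_self, Hn, H1]; exact mul_mem (mul_mem hw hx) (inv_mem hw))
    (fun x hx => by rw [H4, mem_conj]; exact mem_of_eq' (by group) hx)
    (fun x hx => by rw [R.refl_eq_self a1, H3, mem_conj]; exact mem_of_eq' (by group) (r4 x hx))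
    fun x hx => by
      rw [R.refl_refl, H2]
      have := t1 (-1) (by simp) x hx
      rw [← t3] at this
      exact mem_of_eq' (by group) this
  have en := eqv (g := n) (φn ▸ h.mono_nn β one_ne_zero) (fun r hr => refl_mem_supp mβ hr)
    (fun x hx => by rw [H3, mem_conj]; exact mem_of_eq' (by group) hx)
    (fun x hx => by rw [R.refl_self, Hn, H2]; exact mul_mem (mul_mem hn hx) (inv_mem hn))
    (fun x hx => by
      rw [R.refl_refl, H1]
      have := dA (-1) (by simp) x hx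
      rw [← d3] at this
      exact mem_of_eq' (by group) this)
    fun x hx => by rw [R.refl_eq_self a4, H4, mem_conj, (r1 n hn x hx).eq]; exact mem_of_eq' (by group) hx
  have eD := fun c (hc : c ≠ 0) => eqv (g := D c) (φD c hc ▸ h.mono_hh β hc) (fun r hr => hr)
    (fun x hx => H1 ▸ dA c hc x hx) (fun x hx => H2 ▸ mul_mem (mul_mem (dC c hc) hx) (inv_mem (dC c hc)))
    (fun x hx => by
      rw [Equiv.Perm.one_apply, H3, mem_conj]
      have := dA _ (inv_ne_zero hc) x hx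
      rw [← d1 c hc] at this
      convert this using 1
      calc _ = (n⁻¹ * (D c)⁻¹ * n)⁻¹ * x * (n⁻¹ * (D c)⁻¹ * n) := by group
        _ = _ := by
          conv_lhs => rw [← d2 c hc]
          group)
    fun x hx => by
      rw [Equiv.Perm.one_apply, H4, mem_conj, (r1 _ (dC c hc) x hx).eq]; exact mem_of_eq' (by group) hx
  have eT := fun c (hc : c ≠ 0) => eqv (g := T c) (φT c hc ▸ h.mono_hh α hc) (fun r hr => hr)
    (fun x hx => H1 ▸ mul_mem (mul_mem (tA c hc) hx) (inv_mem (tA c hc))) (fun x hx => H2 ▸ t1 c hc x hx)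
    (fun x hx => by
      rw [Equiv.Perm.one_apply, H3, mem_conj]
      have := mul_mem (mul_mem (tA c hc) (dA c hc _ (dA c hc x hx))) (inv_mem (tA c hc))
      convert this using 1
      calc _ = n⁻¹ * T c * n * x * (n⁻¹ * T c * n)⁻¹ := by group
        _ = _ := by rw [t4 c hc]; group)
    fun x hx => by
      rw [Equiv.Perm.one_apply, H4, mem_conj]
      have := t1 _ (inv_ne_zero hc) x hx
      rw [← t2 c hc] at this
      exact mem_of_eq' (by group) this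
  have hS := closed_supp (R := R) {i, k}
  have s0 : ∀ s ∈ R.supp {i, k}, R.A α s + 2 * R.A β s = 2 → Cm R y α s 1 1 → Seed R y α s :=
    fun s hs e hc => seed_of_torus hS mα hs hc fun t ht => ⟨t ^ (-R.A β s), zpow_ne_zero _ ht,
      fun d hd => ⟨_, _, (eT d hd).mul (eD (d ^ 2 / t) (by positivity)), by
        simp only [Equiv.Perm.one_apply, R.A_self, h2]
        field_simp, by
        simp only [Equiv.Perm.one_apply]
        rw [div_zpow, ← zpow_natCast d 2, ← zpow_mul, ← mul_div_assoc, ← zpow_add₀ hd, zpow_neg]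
        simp [e, div_eq_inv_mul]⟩⟩
  have s1 := s0 β mβ (by rw [h1, R.A_self]; rfl) (r5 _ (by simp))
  have s2 := s0 _ (refl_mem_supp mβ mα) (by rw [a1, a2]; rfl) (r5 _ (by simp))
  have s3 := s0 _ (refl_mem_supp mα mβ) (by rw [a3, a4]; rfl) (r5 _ (by simp))
  have s4 : ∀ s ∈ R.supp {i, k}, Seed R y α s → Seed R y α (R.refl β (R.refl α (R.refl β s))) :=
    fun s hs e => by simpa [R.refl_eq_self a1, R.refl_refl] using e.conj hS ((en.mul ew).mul en) mα hs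
  let Q := fun r => ∀ s ∈ R.supp {i, k}, s ≠ r → s ≠ R.ng r → Seed R y r s
  have q1 : Q α := fun s hs => (ind (P := fun s => (s ≠ α → s ≠ R.ng α → Seed R y α s) ∧
      (R.ng s ≠ α → R.ng s ≠ R.ng α → Seed R y α (R.ng s))) (fun r e => by rw [R.ng_ng]; exact e.symm)
    ⟨fun e => absurd rfl e, fun _ e => absurd rfl e⟩
    ⟨fun _ _ => s1, fun _ _ => by
      simpa [R.refl_eq_self a4, R.refl_refl, R.refl_self] using s4 _ (refl_mem_supp mα mβ) s3⟩
    ⟨fun _ _ => s2, fun _ _ => by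
      simpa [R.refl_refl, R.refl_self, R.refl_ng_right] using s4 _ (refl_mem_supp mβ mα) s2⟩
    ⟨fun _ _ => s3, fun _ _ => by
      simpa [R.refl_eq_self a4, R.refl_self, R.refl_ng_right] using s4 _ mβ s1⟩ s hs).1
  have q2 : ∀ {g a c}, a ∈ R.supp {i, k} → Eqv R x₀ y φ (R.supp {i, k}) g (R.refl a) c →
      ∀ r ∈ R.supp {i, k}, Q r → Q (R.refl a r) := fun {g a c} ha hg r hr hq s hs n1 n2 => by
    have := (hq _ (refl_mem_supp ha hs) (fun e => n1 (by rw [← e, R.refl_refl])) fun e => n2 (by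
      rw [← R.refl_ng_right, ← e, R.refl_refl])).conj hS hg hr (refl_mem_supp ha hs)
    rwa [R.refl_refl] at this
  have q3 : Q (R.ng α) := R.refl_self α ▸ q2 mα ew α mα q1
  have q4 : ∀ r ∈ R.supp {i, k}, (Q r ∧ Q (R.ng r)) ∨
      ∃ s, (s = β ∨ s = R.refl α β) ∧ (r = s ∨ r = R.ng s) :=
    ind (fun r => Or.imp (fun e => by rw [R.ng_ng]; exact e.symm) fun ⟨s, e, e'⟩ =>
      ⟨s, e, by rcases e' with rfl | rfl <;> simp [R.ng_ng]⟩) (Or.inl ⟨q1, q3⟩) (Or.inr ⟨_, Or.inl rfl, Or.inl rfl⟩)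
      (Or.inl ⟨q2 mβ en α mα q1, R.refl_ng_right β α ▸ q2 mβ en _ (ng_mem_supp mα) q3⟩)
      (Or.inr ⟨_, Or.inr rfl, Or.inl rfl⟩)
  have q5 : ∀ r ∈ R.supp {i, k}, ∀ s ∈ R.supp {i, k}, (r = β ∨ r = R.ng β) →
      (s = R.refl α β ∨ s = R.ng (R.refl α β)) → Seed R y s r := fun r hr s hs e e' t _ A hA =>
    top_unique fun u _ => hA u (Cm.of_commute (by
      have k1 : H r = C := by rcases e with rfl | rfl <;> simp only [Hn, H2]
      have k2 : H s = H (R.refl α β) := by rcases e' with rfl | rfl <;> simp only [Hn]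
      convert r1 _ (k1 ▸ (hy r hr u).1) _ (mem_conj.1 (H4 ▸ k2 ▸ (hy s hs t).1)) using 1
      group))
  refine locSt_of_AB h₀ hd (by rw [← hα, ← hβ, h2]; simp) (fun r hr t => (hy r hr t).2)
    (relOn_of_seed h₀ hS (fun r hr t => (hy r hr t).2) (fun r hr t u => eq_of_map_eq (inj r hr)
      (hy r hr _).1 (mul_mem (hy r hr _).1 (hy r hr _).1) (by
        rw [map_mul, (hy r hr _).2, (hy r hr _).2, (hy r hr _).2, h.add])) fun r hr s hs n1 n2 => ?_)
  rcases q4 r hr with e | ⟨a, ha, e⟩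
  · exact Or.inl (e.1 s hs n1 n2)
  rcases q4 s hs with e' | ⟨b, hb, e'⟩
  · exact Or.inr (e'.1 r hr n1.symm (R.ne_ng_comm n2))
  have : a ≠ b := by
    rintro rfl
    rcases e with rfl | rfl <;> rcases e' with e' | e'
    exacts [n1 e', n2 e', n2 (by rw [R.ng_ng, e']), n1 e']
  rcases ha with rfl | rfl <;> rcases hb with rfl | rfl
  exacts [absurd rfl this, Or.inr (q5 r hr s hs e e'), Or.inl (q5 s hs r hr e' e), absurd rfl this]

theorem b2_commute (h : R.IsSt x₀) : ∀ r ∈ ({R.sr k, R.ng (R.sr k)} : Set ι),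
    ∀ s ∈ ({R.refl (R.sr i) (R.sr k), R.ng (R.refl (R.sr i) (R.sr k))} : Set ι),
      ∀ t u, Commute (x₀ r t) (x₀ s u) := fun r hr s hs => by
  have ind := fun {P : ι → Prop} => b2_ind (P := P) h1 h2
  obtain ⟨a1, a2, a3, a4⟩ := b2_A h1 h2
  have mα : R.sr i ∈ R.supp {i, k} := sr_mem_supp_left i k
  have mβ : R.sr k ∈ R.supp {i, k} := sr_mem_supp_right i k
  set α := R.sr i
  set β := R.sr k
  have e1 : R.A β r = 2 ∨ R.A β r = -2 := by rcases hr with rfl | rfl <;> simp [R.A_ng_right, R.A_self]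
  have e2 : R.A β s = 0 := by rcases hs with rfl | rfl <;> simp [R.A_ng_right, a4]
  have n1 : s ≠ r := by rintro rfl; omega
  have n2 : s ≠ R.ng r := by rintro rfl; rw [R.A_ng_right] at e2; omega
  refine (h.comm r s n1 n2).commute n1 n2 (Set.eq_empty_of_forall_notMem fun δ hδ => ?_)
  have := ind (P := fun δ => (-1 ≤ R.A β δ ∧ R.A β δ ≤ 1) ∨ δ = β ∨ δ = R.ng β)
    (fun r => by rintro (e | rfl | rfl) <;> simp [R.A_ng_right, R.ng_ng, *]; omega) (by omega) (by simp)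
    (by omega) (by omega) δ (closed_supp _ _ (by rcases hr with rfl | rfl; exacts [mβ, ng_mem_supp mβ]) _
      (by rcases hs with rfl | rfl; exacts [refl_mem_supp mα mβ, ng_mem_supp (refl_mem_supp mα mβ)]) hδ)
  obtain ⟨n3, -, n4, -⟩ := R.ne_of_mem_mid n2 hδ
  obtain ⟨p, q, hp, -, e⟩ := hδ
  have e3 : R.A β δ = p * R.A β r := by
    rw [A_def, e, map_add, map_zsmul, map_zsmul, ← A_def, ← A_def, e2]; simp
  rcases this with e | rfl | rfl
  · rcases e1 with e1 | e1 <;> rw [e1] at e3 <;> omega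
  · rcases hr with rfl | rfl
    exacts [n3 rfl, n4 (R.ng_ng _).symm]
  · rcases hr with rfl | rfl
    exacts [n4 rfl, n3 rfl]

theorem rels_B2 [Finite ι] [Finite K] (h₀ : R.IsModel x₀) (hd : R.LocDec) {E : Type*} [Group E]
    {f : E →* G₀} {L L' : Subgroup G₀} (hL : XS x₀ {R.sr i, R.ng (R.sr i)} ≤ L)
    (hL' : XS x₀ {R.sr k, R.ng (R.sr k)} ≤ L') {γ : L →* E} {γ' : L' →* E} (hγ : ∀ l, f (γ l) = l)
    (hγ' : ∀ l, f (γ' l) = l) : Rels f 11 fun J _ π _ => ∃ y : ι → K → J, R.LocSt {i, k} y ∧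
      (∀ r ∈ R.sgOn {i}, ∀ t, y r t = lf (π.comp γ) (x₀ r t)) ∧
      ∀ r ∈ R.sgOn {k}, ∀ t, y r t = lf (π.comp γ') (x₀ r t) := by
  have ind := fun {P : ι → Prop} => b2_ind (P := P) h1 h2
  have hB := fun {J : Type _} [Group J] => b2H_eq (J := J) h1 h2
  have hloc := fun {J : Type _} [Group J] {y : ι → K → J} {φ : J →* G₀} {A C : Subgroup J} =>
    locSt_B2 (y := y) (φ := φ) (A := A) (C := C) h1 h2 h₀ hd
  have hmid := b2_commute h1 h2 h₀.toIsSt
  obtain ⟨a1, a2, a3, a4⟩ := b2_A h1 h2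
  have mα : R.sr i ∈ R.supp {i, k} := sr_mem_supp_left i k
  have mβ : R.sr k ∈ R.supp {i, k} := sr_mem_supp_right i k
  have sα : ∀ r ∈ R.sgOn {i}, r = R.sr i ∨ r = R.ng (R.sr i) := by rintro r ⟨_, rfl, e⟩; exact e
  have sβ : ∀ r ∈ R.sgOn {k}, r = R.sr k ∨ r = R.ng (R.sr k) := by rintro r ⟨_, rfl, e⟩; exact e
  set α := R.sr i
  set β := R.sr k
  have h := h₀.toIsSt
  have hM := h.hmul_of_finite
  let γA := γ.comp (inclusion hL)
  let γC := γ'.comp (inclusion hL')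
  have hA : ∀ l, f (γA l) = l := fun l => hγ _
  have hC : ∀ l, f (γC l) = l := fun l => hγ' _
  have wA : R.nn x₀ α 1 ∈ XS x₀ {α, R.ng α} := nn_mem_XS (by simp) (by simp) 1
  have nC : R.nn x₀ β 1 ∈ XS x₀ {β, R.ng β} := nn_mem_XS (by simp) (by simp) 1
  let w := lf γA (R.nn x₀ α 1)
  let n := lf γC (R.nn x₀ β 1)
  have fw : f w = _ := map_lf_eq hA wA
  have fn : f n = _ := map_lf_eq hC nC
  have mw := h.mono_nn α one_ne_zero
  have mn := h.mono_nn β one_ne_zero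
  have c1 : ∀ {g v c}, R.Mono x₀ g v c → ∀ r, ∀ l ∈ XS x₀ {r, R.ng r}, g * l * g⁻¹ ∈ XS x₀ {v r, R.ng (v r)} :=
    fun hm r l hl => hm.conj_mem_XS (by rintro _ (rfl | rfl) <;> simp [hm.aut.ng]) hl
  have c2 : ∀ {g v c}, R.Mono x₀ g v c → ∀ r, ∀ l ∈ XS x₀ {v r, R.ng (v r)}, g⁻¹ * l * g ∈ XS x₀ {r, R.ng r} :=
    fun hm r l hl => hm.conj_inv_mem_XS (fun s hs => by simpa [← hm.aut.ng] using hs) hl
  obtain ⟨H1, H2, H3, H4⟩ := hB γA.range γC.range w n
  have ex : ∀ r ∈ R.supp {i, k}, ∀ g ∈ XS x₀ {r, R.ng r}, ∃ z ∈ b2H R α β γA.range γC.range w n r, f z = g :=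
    ind (fun r hr => by rwa [R.ng_ng, Set.pair_comm, b2H_ng])
      (fun g hg => ⟨_, H1.ge (lf_mem_range γA g), map_lf_eq hA hg⟩)
      (fun g hg => ⟨_, H2.ge (lf_mem_range γC g), map_lf_eq hC hg⟩)
      (fun g hg => ⟨n * lf γA ((R.nn x₀ β 1)⁻¹ * g * R.nn x₀ β 1) * n⁻¹, H3.ge (mem_conj.2 (by
        simpa only [mul_assoc, inv_mul_cancel_left, inv_mul_cancel, mul_one] using lf_mem_range γA _)), by
        rw [map_mul, map_mul, map_inv, map_lf_eq hA (c2 mn α g hg), fn]; group⟩)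
      fun g hg => ⟨w * lf γC ((R.nn x₀ α 1)⁻¹ * g * R.nn x₀ α 1) * w⁻¹, H4.ge (mem_conj.2 (by
        simpa only [mul_assoc, inv_mul_cancel_left, inv_mul_cancel, mul_one] using lf_mem_range γC _)), by
        rw [map_mul, map_mul, map_inv, map_lf_eq hC (c2 mw β g hg), fw]; group⟩
  choose! y hy fy using fun r (hr : r ∈ R.supp {i, k}) t => ex r hr _ (x_mem_XS x₀ (Set.mem_insert r _) t)
  obtain ⟨a, b, hab⟩ := XS_two_gen h β
  have hm : ∀ l ∈ [a, b], l ∈ XS x₀ {β, R.ng β} := fun l hl => hab ▸ subset_closure (by simpa using hl)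
  have hab' : closure {x | x ∈ [a, b]} = XS x₀ {β, R.ng β} := by rw [← hab]; congr 1; ext; simp
  obtain ⟨ζ, hζ⟩ := exists_prim K
  have hs3 : ∀ s ∈ [β, R.refl β α, R.refl α β], s ∈ R.supp {i, k} ∧ s ≠ α ∧ s ≠ R.ng α := fun s hs => by
    have k1 : R.A β s ≠ -1 ∧ (R.A β s ≠ 1 ∨ R.A α s ≠ -2) ∧ s ∈ R.supp {i, k} := by
      simp only [List.mem_cons, List.not_mem_nil, or_false] at hs
      rcases hs with rfl | rfl | rfl <;> simp [R.A_self, refl_mem_supp, *]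
    exact ⟨k1.2.2, fun e => k1.1 (e ▸ h2), fun e => by simp [e, R.A_ng_right, h2, R.A_self] at k1⟩
  have dC : R.hh x₀ β ζ ∈ XS x₀ {β, R.ng β} := hh_mem_XS (by simp) (by simp) _
  refine ((((Rels.comm_lf hC hC [a, b] [a, b] hm hm w fun a ha b hb => commute_XS hmid (hm a ha)
    (fw ▸ c1 mw β b (hm b hb))).and (Rels.norm hA (XS_two_gen h α) (g := lf γC (R.hh x₀ β ζ)) fun l hl => by
      rw [map_lf_eq hC dC]; exact c1 (h.mono_hh β ζ.ne_zero) α l hl)).and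
    (Rels.norm hA (XS_two_gen h α) (g := n⁻¹ * w * n) fun l hl => by
      have := c1 mw _ _ (c1 mn α l hl)
      rw [R.refl_eq_self a1] at this
      exact mem_of_eq' (by simp only [map_mul, map_inv, fw, fn]; group) (c2 mn α _ this))).and
    (Rels.forall [β, R.refl β α, R.refl α β] fun s hs => Rels.cm (y := y) h.toIsAB (r := α) (s := s)
      (hs3 s hs).2.1 (hs3 s hs).2.2 (fy α mα) (fy s (hs3 s hs).1)
      (fun γ hγ => fy γ (closed_supp _ _ mα _ (hs3 s hs).1 hγ)) 1 1)).mono le_rfl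
    fun J _ π φ hφ ⟨⟨⟨r1, r2⟩, r4⟩, r5⟩ => ?_
  have hA' : ∀ l, φ ((π.comp γA) l) = l := fun l => (hφ _).trans (hA l)
  have hC' : ∀ l, φ ((π.comp γC) l) = l := fun l => (hφ _).trans (hC l)
  have hy' : ∀ r ∈ R.supp {i, k}, ∀ t, π (y r t) ∈ b2H R α β (π.comp γA).range (π.comp γC).range (π w) (π n) r ∧
      φ (π (y r t)) = x₀ r t := fun r hr t =>
    ⟨by simpa only [MonoidHom.range_comp] using map_mem_b2H π (hy r hr t), by rw [hφ, fy r hr]⟩
  obtain ⟨H1, H2, -, -⟩ := hB (π.comp γA).range (π.comp γC).range (π w) (π n)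
  refine ⟨_, hloc (inj_range hA') (inj_range hC') ((map_lf γA π _).symm ▸ lf_mem_range _ _) (by rw [hφ, fw])
    ((map_lf γC π _).symm ▸ lf_mem_range _ _) (by rw [hφ, fn]) hy' ?_ (fun c hc => ?_) (by simpa using r4) r5,
    fun r hr t => ?_, fun r hr t => ?_⟩
  · rintro _ ⟨a, rfl⟩ _ ⟨b, rfl⟩
    simpa only [lf_coe] using r1 a (hab'.ge a.2) b (hab'.ge b.2)
  · obtain ⟨m, rfl⟩ := hζ c hc
    refine ⟨π (lf γC (R.hh x₀ β ζ)) ^ m, pow_mem ((map_lf γC π _).symm ▸ lf_mem_range _ _) m, by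
      rw [map_pow, hφ, map_lf_eq hC dC, ← zpow_natCast, ← h.hh_zpow hM _ ζ.ne_zero, zpow_natCast], ?_⟩
    induction m with
    | zero => simp
    | succ m ih => exact fun x hx => mem_of_eq' (by group) (r2 _ (ih (by simp) x hx))
  · have k1 := hy' r (sgOn_subset_supp (sgOn_mono (by simp) hr)) t
    have k2 : π (y r t) ∈ (π.comp γA).range := by
      rcases sα r hr with rfl | rfl
      exacts [H1.le k1.1, H1.le ((b2H_ng α β _ _ _ _ α).le k1.1)]
    rw [eq_lf hA' k2, k1.2, lf_of_mem _ (k1.2 ▸ map_mem_of_range hA' k2),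
      lf_of_mem _ (hL (k1.2 ▸ map_mem_of_range hA' k2))]
    rfl
  · have k1 := hy' r (sgOn_subset_supp (sgOn_mono (by simp) hr)) t
    have k2 : π (y r t) ∈ (π.comp γC).range := by
      rcases sβ r hr with rfl | rfl
      exacts [H2.le k1.1, H2.le ((b2H_ng α β _ _ _ _ β).le k1.1)]
    rw [eq_lf hC' k2, k1.2, lf_of_mem _ (k1.2 ▸ map_mem_of_range hC' k2),
      lf_of_mem _ (hL' (k1.2 ▸ map_mem_of_range hC' k2))]
    rfl

end Cfsg.Agent.Pr
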