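import Mathlib
import Cfsg.Agent.Pres.B2Core
import Cfsg.Agent.Pres.SLnMain
import Cfsg.Agent.Ch.MultSp
import Cfsg.Agent.S0246

/-!
# Short presentations of the symplectic groups
-/

set_option autoImplicit false

namespace Cfsg.Agent.Pr

open Subgroup Function Cfsg.Agent.Chev Cfsg.Agent.Chev.StRoot Cfsg.Agent.Chev.CD Cfsg.Agent.Ch

theorem range_le_of_XS {ι : Type} {K G J : Type*} [Group G] [Group J] {x : ι → K → G} {S : Set ι} {L : Subgroup G}
    (hL : L = XS x S) (γ : L →* J) {H : Subgroup J} (h : ∀ r ∈ S, ∀ t, lf γ (x r t) ∈ H) : γ.range ≤ H := by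
  rintro _ ⟨l, rfl⟩
  have := XS_le (H := lfc γ H) (fun r hr t => mem_lfc.2 ⟨hL.ge (x_mem_XS x hr t), h r hr t⟩) (hL.le l.2)
  exact lf_coe γ l ▸ (mem_lfc.1 this).2

variable {K V : Type*} [Field K] [Finite K] [AddCommGroup V] [Module K V] {F : BakForm K V} {m : ℕ}

theorem LX_two_gen' {I : Type*} [DecidableEq I] [Fintype I] (f : F.Frame I) (S : Set I) :
    ∃ a b : F.EG, Subgroup.closure {a, b} = LX f S := by
  by_cases h : ∃ i ∈ S, ∃ j ∈ S, i ≠ j
  · obtain ⟨i, hi, j, hj, h⟩ := h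
    exact LX_two_gen f hi hj h
  · exact ⟨1, 1, le_antisymm (by simp) (LX_le f fun i hi j hj e => absurd ⟨i, hi, j, hj, e⟩ h)⟩

theorem closure_list_pair {G : Type*} [Group G] (a b : G) : closure {x | x ∈ [a, b]} = closure {a, b} := by
  congr 1; ext; simp

theorem hasPres_typeC (h : IsCD F true) (f : F.Frame (Fin (m + 2))) (h0 : f.V0 = ⊥) {k r : ℕ}
    (hL : HasPres (Matrix.SpecialLinearGroup (Fin (m + 2)) K) k r) : HasPres F.EG (k + 3) (r + 8 + 15) := by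
  have h₀ := h.isModel f
  have hAS := XS_AS h f
  have hU := LX_univ h f
  have hc := fun {r s : Rt true (m + 2)} => commute_xE h f (r := r) (s := s)
  have hT := h.XS_xE f h0 (sr true 0)
  have hI := h.tor_injective f
  set x₀ := h.xE f
  set R := st true m
  let o := Fin.last (m + 1)
  let a : Fin (m + 2) := ⟨m, by omega⟩
  have hβ : (R.sr o).1 = ((o, true), (o, false)) := sr_last (by simp [o])
  have hlong := hasPres_long h f (r := R.sr o) (by rw [hβ]; rfl)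
  let f0 := Monoid.Coprod.lift (LX f Set.univ).subtype (XS x₀ {R.sr o, R.ng (R.sr o)}).subtype
  have hko : ∀ k : Fin (m + 2), (k : ℕ) < m + 1 ∨ k = o := fun k => by
    have := k.2; simp only [o, Fin.ext_iff, Fin.val_last]; omega
  have sO : R.sgOn {o} = {R.sr o, R.ng (R.sr o)} := by ext; simp [sgOn]
  have sU : ∀ r ∈ R.sgOn Set.univ, r ∈ R.sgOn {k | (k : ℕ) < m + 1} ∨ r ∈ R.sgOn {o} := by
    rintro r ⟨k, -, e⟩
    exact (hko k).imp (fun h => ⟨k, h, e⟩) fun h => ⟨k, h, e⟩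
  have mL : ∀ r ∈ R.sgOn {k | (k : ℕ) < m + 1}, ∀ t, x₀ r t ∈ LX f Set.univ := fun r hr t =>
    hU.ge (x_mem_XS _ hr t)
  refine ((hasPres_LX f hL).coprod hlong).map (φ := f0) ?_ ?_
  · rw [← MonoidHom.range_eq_top, eq_top_iff, ← hT]
    refine ((XS_mono _ fun r _ k hk => absurd trivial hk).trans (h₀.toIsSt.XS_supp Set.univ).le).trans
      (XS_le fun r hr t => ?_)
    rcases sU r hr with hr | hr
    exacts [⟨Monoid.Coprod.inl ⟨_, mL r hr t⟩, rfl⟩, ⟨Monoid.Coprod.inr ⟨_, x_mem_XS _ (sO ▸ hr) t⟩, rfl⟩]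
  obtain ⟨p, q, hpq⟩ := LX_two_gen' f {i | i ≠ o}
  obtain ⟨u, v, huv⟩ := XS_two_gen h₀.toIsSt (R.sr o)
  rw [← closure_list_pair] at hpq huv
  have ha : R.sgOn {a} ⊆ R.sgOn {k | (k : ℕ) < m + 1} := sgOn_mono (by simp [a])
  refine ((rels_B2 (i := a) (k := o) (by simp [R, st_A_sr, a, o, Fin.ext_iff])
    (by simp [R, st_A_sr, a, o, Fin.ext_iff]) h₀ st_locDec (f := f0) (γ := Monoid.Coprod.inl)
    (γ' := Monoid.Coprod.inr) (XS_le fun r hr => mL r (ha ⟨a, rfl, hr⟩)) le_rfl (fun _ => rfl)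
    fun _ => rfl).and (Rels.comm_lf (f := f0) (γ := Monoid.Coprod.inl) (γ' := Monoid.Coprod.inr)
      (fun _ => rfl) (fun _ => rfl) [p, q] [u, v]
      (fun x hx => LX_mono f (Set.subset_univ _) (hpq.le (subset_closure hx)))
      (fun x hx => huv.le (subset_closure hx)) 1 fun x hx z hz => ?_)).kerGen fun J _ π φ hπ hφ ⟨r1, r2⟩ => ?_
  · rw [map_one, one_mul, inv_one, mul_one]
    refine commute_XS (fun r hr s hs => ?_) ((hAS _).ge (hpq.le (subset_closure hx)))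
      (huv.le (subset_closure hz))
    rcases hs with rfl | rfl <;> exact hc (by simpa [R, st_ng, hβ] using hr.2.2.1)
      (by simpa [R, st_ng, hβ] using hr.2.2.1) (by simpa [R, st_ng, hβ] using hr.2.2.2)
      (by simpa [R, st_ng, hβ] using hr.2.2.2)
  simp only [map_one, one_mul, inv_one, mul_one, hpq, huv] at r2
  set γ := π.comp Monoid.Coprod.inl
  set γ' := π.comp Monoid.Coprod.inr
  have hγ : ∀ l, φ (γ l) = l := fun l => hφ _
  have hγ' : ∀ l, φ (γ' l) = l := fun l => hφ _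
  let y : Rt true (m + 2) → K → J := fun r t => if r.1.2 = bar r.1.1 then lf γ' (x₀ r t) else lf γ (x₀ r t)
  have y1 : ∀ r ∈ R.sgOn {k | (k : ℕ) < m + 1}, ∀ t, y r t = lf γ (x₀ r t) := fun r hr t =>
    if_neg fun e => by
      have := sgOn_subset_AS hr
      simp [AS, e, bar] at this
  have y2 : ∀ r ∈ R.sgOn {o}, ∀ t, y r t = lf γ' (x₀ r t) := fun r hr t =>
    if_pos (by rcases sO ▸ hr with rfl | rfl <;> simp [R, st_ng, hβ, bar])
  have z1 : ∀ r ∈ R.sgOn {k | (k : ℕ) < m + 1}, ∀ t, y r t ∈ γ.range ∧ φ (y r t) = x₀ r t := fun r hr t => by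
    rw [y1 r hr]; exact ⟨lf_mem_range _ _, map_lf_eq hγ (mL r hr t)⟩
  have z2 : ∀ r ∈ R.sgOn {o}, ∀ t, y r t ∈ γ'.range ∧ φ (y r t) = x₀ r t := fun r hr t => by
    rw [y2 r hr]; exact ⟨lf_mem_range _ _, map_lf_eq hγ' (x_mem_XS _ (sO ▸ hr) t)⟩
  have l1 : ∀ i k : Fin (m + 2), (i : ℕ) < m + 1 → (k : ℕ) < m + 1 →
      ∃ z, R.LocSt {i, k} z ∧ ∀ r ∈ R.sgOn {i, k}, z r = y r := fun i k hi hk =>
    loc_of_inj h₀.toIsSt (inj_range hγ) fun r hr => z1 r (sgOn_mono (by rintro _ (rfl | rfl) <;> assumption) hr)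
  have l2 : ∃ z, R.LocSt {o, o} z ∧ ∀ r ∈ R.sgOn {o, o}, z r = y r :=
    loc_of_inj h₀.toIsSt (inj_range hγ') fun r hr => z2 r (by simpa using hr)
  have l3 : ∀ i : Fin (m + 2), (i : ℕ) < m + 1 → ∃ z, R.LocSt {i, o} z ∧ ∀ r ∈ R.sgOn {i, o}, z r = y r := by
    intro i hi
    by_cases e : i = a
    · subst e
      obtain ⟨z, k1, k2, k3⟩ := r1
      refine ⟨z, k1, ?_⟩
      rintro r ⟨_, rfl | rfl, hr⟩
      exacts [funext fun t => by rw [k2 r ⟨_, rfl, hr⟩, y1 r (ha ⟨_, rfl, hr⟩)],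
        funext fun t => by rw [k3 r ⟨_, rfl, hr⟩, y2 r ⟨_, rfl, hr⟩]]
    have hi' : (i : ℕ) < m := by simp only [a, Fin.ext_iff] at e; omega
    obtain ⟨z, k1, k2⟩ := l1 i i hi hi
    obtain ⟨z', k3, k4⟩ := l2
    refine ⟨y, locSt_pair' h₀ ?_ (locSt_single k1 k2) (locSt_single k3 k4) fun r hr s hs t u => ?_,
      fun _ _ => rfl⟩
    · simp only [R, st_A_sr, o, Fin.ext_iff, Fin.val_last, Bool.true_eq_false, and_false, if_false]
      split_ifs <;> omega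
    · rw [y1 r (sgOn_mono (by simpa using hi) hr), y2 s hs]
      refine r2 _ ((hAS _).le (x_mem_XS _ ?_ t)) _ (x_mem_XS _ (sO ▸ hs) u)
      have := sr_mem_AS (c := true) (S := {i | i ≠ o}) hi (by simp [o, Fin.ext_iff]; omega)
        (by simp [o, Fin.ext_iff]; omega)
      obtain ⟨_, rfl, rfl | rfl⟩ := hr
      exacts [this, ng_mem_AS this]
  obtain ⟨z, hz, -, H⟩ := ker_of_loc (a := y) (φ := φ) h₀
    (fun r hr t => (sU r hr).elim (fun h => (z1 r h t).2) fun h => (z2 r h t).2) (fun i k => by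
      rcases hko i with hi | rfl <;> rcases hko k with hk | rfl
      exacts [l1 i k hi hk, l3 i hi, Set.pair_comm k o ▸ l3 k hk, l2]) (by
      rw [eq_top_iff, ← MonoidHom.range_eq_top.2 hπ, MonoidHom.range_eq_map,
        ← Monoid.Coprod.range_inl_sup_range_inr, Subgroup.map_sup, ← MonoidHom.range_comp,
        ← MonoidHom.range_comp]
      exact sup_le (range_le_of_XS hU γ fun r hr t =>
        y1 r hr t ▸ x_mem_XS y (sgOn_mono (Set.subset_univ _) hr) t) (range_le_of_XS rfl γ' fun r hr t =>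
          y2 r (sO ▸ hr) t ▸ x_mem_XS y (sgOn_mono (Set.subset_univ _) (sO ▸ hr : r ∈ R.sgOn {o})) t))
  refine (injective_iff_map_eq_one _).2 fun g hg => ?_
  obtain ⟨c, hc, rfl⟩ := H g hg
  rw [(injective_iff_map_eq_one _).1 hI c hc, map_one]

theorem hasPres_sp {k r : ℕ} (hL : HasPres (Matrix.SpecialLinearGroup (Fin (m + 2)) K) k r) {k' r' : ℕ}
    (h1 : k + 3 ≤ k') (h2 : r + 23 + k' ≤ r' + (k + 3)) :
    HasPres (Matrix.symplecticGroup (Fin (m + 2)) K) k' r' ∧ HasPres (PSp (m + 2) K) k' (r' + 1) := by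
  obtain ⟨f⟩ := bakSp_exists_frame (Cl.spB_nondegenerate (m := m + 2) (R := K)) Cl.spB_isAlt
    (m := m + 2) (by simp [two_mul])
  have h := ((hasPres_typeC (isCD_bakSp _ _) f (bakSp_V0 f) hL).equiv (spEquivEG _ K).symm).mono h1 h2
  have := Fintype.ofFinite K
  have := isCyclic_of_card_dvd_two (S0246.result (F := K) rfl (m + 2) (by omega) ▸ Nat.gcd_dvd_left _ _)
  exact ⟨h, h.quot_cyclic _⟩

end Cfsg.Agent.Pr
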