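import Mathlib
import Cfsg.Agent.Pres.TypeC
import Cfsg.Agent.Ch.MultO

/-!
# Short presentations of the split orthogonal groups
-/

set_option autoImplicit false

namespace Cfsg.Agent.Pr

open Subgroup Function Cfsg.Agent.Chev Cfsg.Agent.Chev.StRoot Cfsg.Agent.Chev.CD Cfsg.Agent.Ch

theorem hasPres_sl_five' {F : Type*} [Field F] [Finite F] :
    HasPres (Matrix.SpecialLinearGroup (Fin 5) F) 4 18 := by
  let s : alternatingGroup (Fin 5) := ⟨Equiv.swap 2 3 * Equiv.swap 3 4,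
    Equiv.Perm.mem_alternatingGroup.2 (by decide)⟩
  have hs : ∀ σ : Equiv.Perm (Fin 5), σ 0 = 0 ∧ σ 1 = 1 ∧ Equiv.Perm.sign σ = 1 →
      σ ∈ [1, s.1, s.1 * s.1] := by decide +kernel
  refine hasPres_sl_of (m := 4) (by norm_num) (alternatingGroup _).subtype (sign_alt_pow _)
    (i := 0) (j := 1) (l := 2) (by decide) (by decide) (by decide) [s]
    [⟨2, by decide⟩] [⟨⟨(2, 3), by decide⟩, by decide⟩, ⟨⟨(2, 4), by decide⟩, by decide⟩]
    [0] _ (alt_sec (by norm_num) (by decide)) (fun σ => ⟨fun h => ?_, fun h => ?_⟩) (fun k h1 h2 => ?_)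
    (fun s h1 h2 h3 h4 => ?_) (by decide) (normalClosure_altCyc3 (a := 0) (b := 1) (c := 2) (by decide)
      (by decide) (by decide)) hasPres_alt_five
  · have m : s ∈ closure {x | x ∈ [s]} := subset_closure (by simp)
    have := hs σ ⟨h.1, h.2, σ.2⟩
    simp only [List.mem_cons, List.not_mem_nil, or_false] at this
    rcases this with e | e | e
    exacts [(Subtype.ext e : σ = 1) ▸ one_mem _, (Subtype.ext e : σ = s) ▸ m,
      (Subtype.ext e : σ = s * s) ▸ mul_mem m m]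
  · induction h using closure_induction with
    | mem x hx => rw [List.mem_singleton.1 hx]; decide
    | one => simp
    | mul x y _ _ hx hy => rw [map_mul, Equiv.Perm.mul_apply, Equiv.Perm.mul_apply, hy.1, hy.2]; exact hx
    | inv x _ hx => simpa [Equiv.symm_apply_eq, eq_comm (b := x.1 _)] using hx
  · exact ⟨_, List.mem_singleton_self _, alt_three le_rfl (by decide) (by decide) (by decide) h1 h2⟩
  · obtain ⟨σ, ⟨h5, h6⟩, h7⟩ := alt_three (n := 5) (i := 0) (j := 1) (k := 2) le_rfl (by decide)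
      (by decide) (by decide) h1 h2
    obtain ⟨k, hk⟩ := ((alternatingGroup (Fin 5)).subtype σ).surjective s.1.2
    have k0 : k ≠ 0 := by rintro rfl; exact h3 (h5.symm.trans hk)
    have k1 : k ≠ 1 := by rintro rfl; exact h4 (h6.symm.trans hk)
    have k2 : k ≠ 2 := by rintro rfl; exact s.2 (h7.symm.trans hk)
    obtain rfl | rfl : k = 3 ∨ k = 4 := by clear hk; revert k0 k1 k2; revert k; decide
    · exact ⟨_, List.mem_cons_self, σ, ⟨h5, h6⟩, RtA.ext' h7 hk⟩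
    · exact ⟨_, List.mem_cons_of_mem _ List.mem_cons_self, σ, ⟨h5, h6⟩, RtA.ext' h7 hk⟩

theorem Rels.comm_lf₁ {E G : Type*} [Group E] [Group G] {f : E →* G} {L : Subgroup G} {γ : L →* E}
    (hγ : ∀ l, f (γ l) = l) (l : List G) (hl : ∀ a ∈ l, a ∈ L) (g : E) (h : ∀ a ∈ l, Commute a (f g)) :
    Rels f l.length fun _ _ π _ => ∀ a ∈ closure {x | x ∈ l}, Commute (lf (π.comp γ) a) (π g) :=
  (Rels.forall l fun a ha => Rels.commute (a := lf γ a) (b := g) (by
    simpa [map_lf_eq hγ (hl a ha)] using h a ha)).mono (by simp) fun J _ π φ _ H a ha =>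
    ((mem_lfc.1 ((closure_le (lfc (π.comp γ) (centralizer {_}))).2 (fun a ha => mem_lfc.2
      ⟨hl a ha, by rintro _ rfl; simpa [map_lf] using (H a ha).symm.eq⟩) ha)).2 _ rfl).symm

variable {K V : Type*} [Field K] [AddCommGroup V] [Module K V] {F : BakForm K V} {m : ℕ}

theorem sr_last' : (sr false (Fin.last (m + 1))).1 = ((⟨m, by omega⟩, true), (Fin.last (m + 1), false)) := by
  rw [CD.sr, dif_neg (by simp), dif_neg (by simp)]

theorem tor_ker_D (f : BF (m + 2) K V) {d : Fin (m + 2) → Kˣ} (hd : (f.isSt (c := false)).tor f.hmul d = 1) :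
    (∀ l : Fin (m + 2), (l : ℕ) < m → d l = 1) ∧ d ⟨m, by omega⟩ * d (Fin.last _) = 1 ∧
      d (Fin.last _) * d (Fin.last _) = 1 := by
  have key : ∀ (d : Fin (m + 2) → Kˣ) y, (f.isSt (c := false)).tor f.hmul d (f.v y) =
      ((∏ k, d k ^ cwp (sr false k).1.1 (sr false k).1.2 (ew y) : Kˣ) : K) • f.v y := fun d y => by
    induction d using StRoot.pi_units_induction with
    | h1 => simp
    | hs i t =>
      rw [StRoot.IsSt.tor_single, f.hh_v _ t.ne_zero, Finset.prod_eq_single i (fun k _ hk => by simp [hk])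
        (by simp)]
      simp [st]
    | hm a b ha hb =>
      rw [map_mul, LinearEquiv.mul_apply, hb, map_smul, ha, smul_smul]
      simp only [Pi.mul_apply, mul_zpow, Finset.prod_mul_distrib, Units.val_mul, mul_comm]
  have h2 : ∀ a, ∏ k, d k ^ cwp (sr false k).1.1 (sr false k).1.2 (ew (a, true)) = 1 := fun a => Units.ext (by
    simpa [hd, f.co_v] using (congrArg (f.co (a, true)) (key d (a, true))).symm)
  have h3 : ∀ l : Fin (m + 2), (∏ k : Fin (m + 1), d k.castSucc ^ (if (k : ℕ) = l then 1 else 0 : ℤ)) *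
      d (Fin.last _) ^ ((if m ≤ l then 1 else 0) + if m + 1 ≤ l then 1 else 0 : ℤ) = 1 := fun l => by
    have h3 : ∏ a ∈ Finset.univ.filter (· ≤ l),
        ∏ k, d k ^ cwp (sr false k).1.1 (sr false k).1.2 (ew (a, true)) = 1 :=
      Finset.prod_eq_one fun a _ => h2 a
    rw [Finset.prod_comm] at h3
    simp only [prod_zpow_eq_zpow_sum] at h3
    rw [Fin.prod_univ_castSucc] at h3
    rw [← h3]
    congr 1
    · refine Finset.prod_congr rfl fun k _ => congrArg _ ?_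
      have := k.2
      rw [sr_of_lt (by simpa using this)]
      simp only [cwp_apply, ev_ew, bar, Prod.mk.injEq, Bool.not_true, Bool.true_eq_false, and_false, and_true,
        if_false, Finset.sum_sub_distrib, Finset.sum_ite_eq, Finset.mem_filter, Finset.mem_univ, true_and,
        Fin.le_def, Fin.val_castSucc]
      split_ifs <;> omega
    · rw [sr_last']
      simp only [cwp_apply, ev_ew, bar, Prod.mk.injEq, Bool.not_true, Bool.false_eq_true, and_false, and_true,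
        Bool.true_eq_false, if_false, Finset.sum_sub_distrib, Finset.sum_ite_eq, Finset.mem_filter,
        Finset.mem_univ, true_and, Fin.le_def, Fin.val_last, Fin.ext_iff (a := Fin.last _) (b := ⟨m, _⟩),
        Nat.add_eq_left, one_ne_zero]
      congr 1
      split_ifs <;> rfl
  have h4 : ∀ l : Fin (m + 1), ∏ k : Fin (m + 1), d k.castSucc ^ (if (k : ℕ) = l.castSucc then 1 else 0 : ℤ) =
      d l.castSucc := fun l => by simp [Fin.val_inj]
  refine ⟨fun l hl => ?_, ?_, ?_⟩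
  · have := h3 l
    rw [show l = Fin.castSucc ⟨l, by omega⟩ from rfl, h4] at this
    simpa [hl.not_ge, show ¬ m + 1 ≤ l by omega] using this
  · have := h3 (Fin.castSucc ⟨m, by omega⟩)
    rw [h4] at this
    simpa using this
  · simpa [Nat.ne_of_lt (Fin.is_lt _), sq] using h3 (Fin.last _)

theorem hh_rel_D (h : IsCD F false) (f : F.Frame (Fin (m + 2))) :
    (st false m).hh (h.xE f) (sr false ⟨m, by omega⟩) (-1) *
      (st false m).hh (h.xE f) (sr false (Fin.last _)) (-1) = 1 := by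
  refine Subtype.ext (BF.Fx_ext (f := bf f) ((bf f).XS_le_Fx _ (mul_mem (hh_mem_univ (R := st false m) _ (-1))
    (hh_mem_univ (R := st false m) _ (-1)))) (one_mem _) fun a b => congrArg _ ?_)
  change ((st false m).hh (bf f).x _ _ * (st false m).hh (bf f).x _ _) _ = (bf f).v b
  rw [LinearEquiv.mul_apply, (bf f).hh_v _ (by simp), map_smul, (bf f).hh_v _ (by simp), smul_smul,
    ← zpow_add₀ (by simp), sr_last', sr_of_lt (by simp)]
  simp only [cwp_apply, bar, Prod.mk.injEq, Bool.not_true, Bool.true_eq_false, and_false, if_false,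
    Fin.ext_iff (a := Fin.last _) (b := ⟨m, _⟩), Fin.val_last, Nat.add_eq_left, one_ne_zero, false_and]
  rw [show ((Fin.last (m + 1), false) : SI (m + 2)) = bar (⟨m + 1, by omega⟩, true) from rfl, ev_bar,
    sub_neg_eq_add, add_add_sub_cancel, ← two_mul, zpow_mul]
  simp

theorem refl_rt {c : Bool} (r d : Rt c (m + 2)) {p q : SI (m + 2)} (h : Adm c p q) :
    (st c m).refl r (rt d p q) = rt d (pm r.1.1 r.1.2 p) (pm r.1.1 r.1.2 q) := wt_inj (by
  rw [st_refl, wt_rf, h.wt_rt, (h.pm r.2.adm.ne).wt_rt, ew_pm r.2.adm.ne, ew_pm r.2.adm.ne, map_sub, CD.wt]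
  module)

theorem exists_tau (h : IsCD F false) (f : F.Frame (Fin (m + 2))) (hm : 2 ≤ m) :
    ∃ τ w c, (st false m).Mono (h.xE f) τ w c ∧ w (sr false ⟨m, by omega⟩) = sr false (Fin.last _) ∧
      ∀ g ∈ LX f {i | i ≠ 0 ∧ i ≠ Fin.last _}, Commute g τ := by
  have h₀ := (h.isModel f).toIsSt
  let ρ : Bool → Rt false (m + 2) := fun b => ⟨((0, true), (Fin.last _, b)), Or.inl ⟨Fin.last_pos, rfl⟩⟩
  refine ⟨_, _, _, (h₀.mono_nn (ρ true) one_ne_zero).mul (h₀.mono_nn (ρ false) one_ne_zero), ?_,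
    fun g hg => commute_XS (T := {r | r.1.1.1 ∈ ({0, Fin.last _} : Set _) ∧ r.1.2.1 ∈ ({0, Fin.last _} : Set _)})
      (fun r hr s hs => ?_) ((XS_AS h f _).ge hg) (mul_mem (nn_mem_XS ?_ ?_ 1) (nn_mem_XS ?_ ?_ 1))⟩
  · have e1 : (⟨m, by omega⟩ : Fin (m + 2)) ≠ 0 := by simp [Fin.ext_iff]; omega
    have e2 : (⟨m, by omega⟩ : Fin (m + 2)) ≠ Fin.last _ := by simp [Fin.ext_iff]
    have e3 : CD.sr false ⟨m, by omega⟩ = rt (ρ true) (⟨m, by omega⟩, true) (Fin.last _, true) := by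
      rw [← rt_self (ρ true) (CD.sr false _), sr_of_lt (by simp)]; rfl
    rw [Equiv.Perm.mul_apply, e3, ← rt_self (ρ true) (CD.sr false (Fin.last _)), sr_last', refl_rt _ _ (Or.inl e2),
      refl_rt _ _ (Adm.pm (Or.inl e2) (ρ false).2.adm.ne)]
    simp [ρ, pm, bar, e1, e2]
  · obtain ⟨-, -, h1, h2⟩ := hr
    refine commute_xE h f ?_ ?_ ?_ ?_ <;> intro e
    exacts [hs.1.elim (h1.1 <| e.trans ·) (h1.2 <| e.trans ·), hs.2.elim (h1.1 <| e.trans ·) (h1.2 <| e.trans ·),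
      hs.1.elim (h2.1 <| e.trans ·) (h2.2 <| e.trans ·), hs.2.elim (h2.1 <| e.trans ·) (h2.2 <| e.trans ·)]
  all_goals simp [ρ, st_ng]

/-- The relations making the last fundamental subgroup commute with two others. -/
theorem rels_commD [Finite K] {ι Nd M : Type} [AddCommGroup M] [Fintype Nd] {R : StRoot ι Nd M} {G E : Type*}
    [Group G] [Group E] {x : ι → K → G} (h : R.IsSt x) {r s δ : ι} (e : R.A δ s = 1)
    (hc : ∀ a ∈ XS x {r, R.ng r}, ∀ b ∈ XS x {s, R.ng s}, Commute a b) {f : E →* G} {L : Subgroup G}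
    {γ : L →* E} (hγ : ∀ l, f (γ l) = l) (hL : XS x ({r, R.ng r} ∪ {s, R.ng s}) ≤ L)
    (hδ : ∀ d, R.hh x δ d ∈ L) {τ z : E} (hz : f z = 1)
    (hτ : ∀ a ∈ XS x ({r, R.ng r} ∪ {s, R.ng s}), ∀ b ∈ XS x {s, R.ng s}, Commute a (f τ * b * (f τ)⁻¹)) :
    Rels f 4 fun _ _ π _ => ((-1 : K) = 1 ∨ π z = 1) ∧ ((∀ d, Commute (lf (π.comp γ) (R.hh x δ d)) (π τ)) →
      ∀ a ∈ XS x ({r, R.ng r} ∪ {s, R.ng s}), ∀ b ∈ XS x {s, R.ng s},
        Commute (lf (π.comp γ) a) (π τ * lf (π.comp γ) b * (π τ)⁻¹)) := by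
  obtain ⟨l, ⟨l3, l2⟩, hl⟩ := XS_prod_gen h hc
  rw [← XS_union] at hl
  have hs : XS x {s, R.ng s} ≤ L := (XS_mono _ Set.subset_union_right).trans hL
  have m1 : ∀ t, x s t ∈ XS x {s, R.ng s} := x_mem_XS _ (by simp)
  have m2 : ∀ t, x (R.ng s) t ∈ XS x {s, R.ng s} := x_mem_XS _ (by simp)
  by_cases hK : ∀ c : K, c = 0 ∨ c = 1
  · have m3 : ∀ b ∈ [x s 1, x (R.ng s) 1], b ∈ XS x {s, R.ng s} := by simp [m1, m2]
    refine (Rels.comm_lf hγ hγ l [x s 1, x (R.ng s) 1] (fun a ha => hL (hl.le (subset_closure ha)))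
      (fun b hb => hs (m3 b hb)) τ fun a ha b hb => hτ a (hl.le (subset_closure ha)) b (m3 b hb)).mono
      (by have := l2 hK; simp; omega) fun J _ π φ _ H => ⟨Or.inl ((hK _).resolve_left (by simp)),
        fun _ a ha b hb => H a (hl.ge ha) b (XS_le ?_ hb)⟩
    rintro _ (rfl | rfl) t <;> rcases hK t with rfl | rfl
    exacts [(h.add _).zero ▸ one_mem _, subset_closure (by simp), (h.add _).zero ▸ one_mem _,
      subset_closure (by simp)]
  push Not at hK
  obtain ⟨c, c0, c1⟩ := hK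
  have m3 : R.nn x s 1 * x s 1 ∈ XS x {s, R.ng s} := mul_mem (nn_mem_XS (by simp) (by simp) 1) (m1 1)
  refine ((Rels.eq (a := z) (b := 1) (by simp [hz])).and (Rels.comm_lf hγ hγ l [R.nn x s 1 * x s 1]
    (fun a ha => hL (hl.le (subset_closure ha))) (by simpa using hs m3) τ fun a ha b hb =>
      hτ a (hl.le (subset_closure ha)) b (List.mem_singleton.1 hb ▸ m3))).mono (by simp; omega)
    fun J _ π φ _ H => ⟨Or.inr (by simpa using H.1), fun hd a ha b hb => ?_⟩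
  let Z := lfc (π.comp γ) ((centralizer (lf (π.comp γ) '' XS x ({r, R.ng r} ∪ {s, R.ng s}))).comap
    (MulAut.conj (π τ)).toMonoidHom)
  have mZ : ∀ {g}, g ∈ Z ↔ g ∈ L ∧ ∀ a ∈ XS x ({r, R.ng r} ∪ {s, R.ng s}),
      Commute (lf (π.comp γ) a) (π τ * lf (π.comp γ) g * (π τ)⁻¹) := by
    simp [Z, mem_lfc, mem_centralizer_iff, Commute, SemiconjBy]
  have := rank_one_gen h e c0 c1 (H := Z) (mZ.2 ⟨hs m3, fun a ha => H.2 a (hl.ge ha) _ (subset_closure (by simp))⟩)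
    fun d d0 g hg => mZ.2 ⟨mul_mem (mul_mem (hδ d) (mZ.1 hg).1) (inv_mem (hδ d)), fun a ha => by
      have k := ((mZ.1 hg).2 _ (h.conj_mem_XS_of_mem_HH (inv_mem (hh_mem_HH δ d0)) ha)).map
        (MulAut.conj (lf (π.comp γ) (R.hh x δ d)))
      rw [lf_conj _ (inv_mem (hδ d)) (hL ha), lf_inv _ (hδ d)] at k
      rw [lf_conj _ (hδ d) (mZ.1 hg).1, ← mul_assoc, ← mul_assoc, ← (hd d).eq, mul_assoc _ _ (π τ)⁻¹,
        (hd d).inv_inv.eq]
      convert k using 1 <;> simp only [MulAut.conj_apply] <;> group⟩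
  exact (mZ.1 (XS_le (by rintro _ (rfl | rfl) t; exacts [(this t).1, (this t).2]) hb)).2 a ha

theorem hasPres_typeD [Finite K] (h : IsCD F false) (f : F.Frame (Fin (m + 2))) (h0 : f.V0 = ⊥) (hm : 2 ≤ m)
    {k r : ℕ} (hL : HasPres (Matrix.SpecialLinearGroup (Fin (m + 2)) K) k r) : HasPres F.EG (k + 1) (r + 7) := by
  classical
  obtain ⟨τ₀, w, c, mτ, hw, cτ⟩ := exists_tau h f hm
  obtain ⟨g, hg⟩ := hasPres_LX f hL
  have h₀ := h.isModel f
  have hAS := XS_AS h f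
  have hU := LX_univ h f
  have hT := h.XS_xE f h0 (CD.sr false 0)
  have hh1 := hh_rel_D h f
  have hker := fun d (hd : h₀.toIsSt.tor h₀.toIsSt.hmul_of_finite d = 1) => tor_ker_D (bf f) (d := d) (by
    have := congrArg F.EG.subtype hd
    rwa [StRoot.IsSt.map_tor] at this)
  set x₀ := h.xE f
  set R := st false m
  set o := Fin.last (m + 1)
  set a : Fin (m + 2) := ⟨m, by omega⟩
  change w (R.sr a) = R.sr o at hw
  change R.hh x₀ (R.sr a) (-1) * R.hh x₀ (R.sr o) (-1) = 1 at hh1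
  have hT' : XS x₀ (R.sgOn Set.univ) = ⊤ := top_unique (hT.ge.trans
    ((XS_mono _ fun r _ k hk => absurd trivial hk).trans (h₀.toIsSt.XS_supp Set.univ).le))
  have hko : ∀ k : Fin (m + 2), (k : ℕ) < m + 1 ∨ k = o := fun k => by
    have := k.2; simp only [o, Fin.ext_iff, Fin.val_last]; omega
  have sO : ∀ i, R.sgOn {i} = {R.sr i, R.ng (R.sr i)} := fun i => by ext; simp [sgOn]
  have sU : ∀ r ∈ R.sgOn Set.univ, r ∈ R.sgOn {k | (k : ℕ) < m + 1} ∨ r ∈ R.sgOn {o} := by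
    rintro r ⟨k, -, e⟩
    exact (hko k).imp (fun h => ⟨k, h, e⟩) fun h => ⟨k, h, e⟩
  have mL : ∀ r ∈ R.sgOn {k | (k : ℕ) < m + 1}, ∀ t, x₀ r t ∈ LX f Set.univ := fun r hr t =>
    hU.ge (x_mem_XS _ hr t)
  have ha : ∀ {i : Fin (m + 2)}, (i : ℕ) < m + 1 → R.sgOn {i} ⊆ R.sgOn {k | (k : ℕ) < m + 1} := fun hi =>
    sgOn_mono (by simpa using hi)
  have mA : XS x₀ (R.sgOn {a}) ≤ LX f Set.univ := XS_le fun r hr => mL r (ha (by simp [a]) hr)
  have mO : ∀ r ∈ R.sgOn {o}, ∀ t, τ₀⁻¹ * x₀ r t * τ₀ ∈ XS x₀ (R.sgOn {a}) := fun r hr t =>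
    mτ.conj_inv_mem_XS (S := R.sgOn {o}) (fun s hs => by
      rw [sO, ← hw, ← mτ.aut.ng] at hs
      simpa [sO] using hs) (x_mem_XS _ hr t)
  refine (hg.extend (s := 7) (LX f Set.univ).subtype (fun _ : Unit => τ₀) ?_
    fun E _ γ τ φ₀ hγ hτ hE => ?_).hasPres (by simp) (by simp)
  · refine top_unique (hT'.ge.trans (XS_le fun r hr t => (sU r hr).elim
      (fun h => subset_closure (Or.inl ⟨⟨_, mL r h t⟩, rfl⟩)) fun h => ?_))
    have k1 : τ₀ ∈ closure (Set.range (LX f Set.univ).subtype ∪ Set.range fun _ : Unit => τ₀) :=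
      subset_closure (Or.inr ⟨(), rfl⟩)
    exact mem_of_eq' (by simp only [coe_subtype]; group) (mul_mem (mul_mem k1
      (subset_closure (Or.inl ⟨⟨_, mA (mO r h t)⟩, rfl⟩))) (inv_mem k1))
  let y : Rt false (m + 2) → K → E := fun r t =>
    if r ∈ R.sgOn {o} then τ () * lf γ (τ₀⁻¹ * x₀ r t * τ₀) * (τ ())⁻¹ else lf γ (x₀ r t)
  have y1 : ∀ r ∈ R.sgOn {k | (k : ℕ) < m + 1}, ∀ t, y r t = lf γ (x₀ r t) := fun r hr t =>
    if_neg fun e => by
      have := sgOn_subset_AS hr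
      have e1 : (R.sr o).1 = _ := sr_last'
      rcases sO o ▸ e with rfl | rfl <;> simp [AS, R, st_ng, e1] at this
  have y2 : ∀ r ∈ R.sgOn {o}, ∀ t, y r t = τ () * lf γ (τ₀⁻¹ * x₀ r t * τ₀) * (τ ())⁻¹ := fun r hr t => if_pos hr
  have y3 : ∀ r ∈ R.sgOn Set.univ, ∀ t, φ₀ (y r t) = x₀ r t := fun r hr t => (sU r hr).elim
    (fun h => by rw [y1 r h, map_lf_eq hγ (mL r h t)]) fun h => by
      rw [y2 r h, map_mul, map_mul, map_inv, hτ, map_lf_eq hγ (mA (mO r h t))]; group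
  have A0 : ∀ i : Fin (m + 2), i = 0 ∨ i = a → R.A (R.sr i) (R.sr o) = 0 := by
    rintro _ (rfl | rfl) <;> simp [R, st_A_sr, o, a, Fin.ext_iff] <;> omega
  have cm : ∀ i k : Fin (m + 2), R.A (R.sr i) (R.sr k) = 0 → ∀ r ∈ R.sgOn {i}, ∀ s ∈ R.sgOn {k}, ∀ t u,
      Commute (x₀ r t) (x₀ s u) := fun i k e r hr s hs => SL.commute (R := R) st_sl h₀.toIsAB (by
    rcases sO i ▸ hr with rfl | rfl <;> rcases sO k ▸ hs with rfl | rfl <;>
      simp only [R.A_ng_left, R.A_ng_right, e, neg_zero, le_refl])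
  let δ : Rt false (m + 2) := ⟨((a, true), (⟨1, by omega⟩, true)), Or.inr (Or.inl ⟨hm, rfl⟩)⟩
  have mδ : ∀ d, R.hh x₀ δ d ∈ LX f {i | i ≠ 0 ∧ i ≠ o} := fun d => by
    have : δ ∈ AS false {i | i ≠ 0 ∧ i ≠ o} := ⟨rfl, rfl, by
      simp only [δ, a, o, Set.mem_ofPred_eq, Ne, Fin.ext_iff, Fin.val_last, Fin.val_zero]; omega⟩
    exact (hAS _).le (hh_mem_XS this (ng_mem_AS this) d)
  obtain ⟨p, q, hpq⟩ := LX_two_gen' f {i | i ≠ 0 ∧ i ≠ o}
  rw [← closure_list_pair] at hpq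
  have m0 : ∀ i, R.sr i ∈ R.sgOn Set.univ ∧ R.ng (R.sr i) ∈ R.sgOn Set.univ := fun i =>
    ⟨sr_mem_sgOn trivial, ng_sr_mem_sgOn trivial⟩
  refine (((Rels.comm_lf₁ hγ [p, q] (fun x hx => LX_mono f (Set.subset_univ _) (hpq.le (subset_closure hx)))
    (τ ()) fun x hx => hτ () ▸ cτ x (hpq.le (subset_closure hx))).and (Rels.mem (a := τ ())
      (H := XS y (R.sgOn Set.univ)) (by
        rw [map_XS]
        exact XS_le (fun r hr t => y3 r hr t ▸ x_mem_XS (fun r t => φ₀ (y r t)) hr t) (hT'.ge (mem_top _))))).and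
    (rels_commD h₀.toIsSt (r := R.sr 0) (s := R.sr a) (δ := δ) ?_ ?_ hγ ?_
      (fun d => LX_mono f (Set.subset_univ _) (mδ d)) (τ := τ ())
      (z := R.hh y (R.sr a) (-1) * R.hh y (R.sr o) (-1)) (by simpa [hh, nn, y3, m0] using hh1)
      fun u hu v hv => ?_)).kerGen fun J _ π φ hπ hφ ⟨⟨r1, r2⟩, r3, r4⟩ => ?_
  · have e1 : (R.sr a).1 = _ := sr_of_lt (by simp [a])
    rw [st_A, e1]
    simp [δ, Af, dl, bar, a, Fin.ext_iff]
    split_ifs <;> omega
  · exact fun u hu v hv => commute_XS (cm 0 a (by simp [R, st_A_sr, a, Fin.ext_iff]; split_ifs <;> omega))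
      (sO 0 ▸ hu) (sO a ▸ hv)
  · rw [← sO, ← sO]
    exact XS_le fun r hr => mL r (hr.elim (fun h => ha (by simp) h) fun h => ha (by simp [a]) h)
  · rw [← sO, ← sO] at hu
    refine commute_XS (T := R.sgOn {o}) (fun r hr => hr.elim (cm _ _ (A0 _ (Or.inl rfl)) r)
      (cm _ _ (A0 _ (Or.inr rfl)) r)) hu (hτ () ▸ mτ.conj_mem_XS ?_ hv)
    rintro _ (rfl | rfl) <;> simp [sO, hw, mτ.aut.ng]
  rw [hpq] at r1
  replace r4 := r4 fun d => r1 _ (mδ d)
  rw [← sO, ← sO] at r4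
  rw [map_XS] at r2
  have hγ' : ∀ l, φ ((π.comp γ) l) = l := fun l => (hφ _).trans (hγ l)
  have z0 : ∀ r ∈ R.sgOn Set.univ, ∀ t, φ (π (y r t)) = x₀ r t := fun r hr t => by rw [hφ, y3 r hr]
  have z1 : ∀ r ∈ R.sgOn {k | (k : ℕ) < m + 1}, ∀ t, π (y r t) = lf (π.comp γ) (x₀ r t) := fun r hr t => by
    rw [y1 r hr, map_lf]
  have z2 : ∀ r ∈ R.sgOn {o}, ∀ t, π (y r t) = π (τ ()) * lf (π.comp γ) (τ₀⁻¹ * x₀ r t * τ₀) * (π (τ ()))⁻¹ :=
    fun r hr t => by rw [y2 r hr, map_mul, map_mul, map_inv, map_lf]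
  have l1 : ∀ i k : Fin (m + 2), (i : ℕ) < m + 1 → (k : ℕ) < m + 1 →
      ∃ z, R.LocSt {i, k} z ∧ ∀ r ∈ R.sgOn {i, k}, z r = fun t => π (y r t) := fun i k hi hk =>
    loc_of_inj h₀.toIsSt (inj_range hγ') fun r hr t => ⟨by
      rw [z1 r (sgOn_mono (by rintro _ (rfl | rfl) <;> assumption) hr)]
      exact lf_mem_range _ _, z0 r (sgOn_mono (Set.subset_univ _) hr) t⟩
  have l2 : ∀ i, i ≠ 0 → i ≠ a → ∃ z, R.LocSt {i, o} z ∧ ∀ r ∈ R.sgOn {i, o}, z r = fun t => π (y r t) :=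
    fun i i0 ia => loc_of_inj h₀.toIsSt (inj_conj (inj_range hγ') (π (τ ()))) fun r hr t =>
      ⟨mem_conj.2 (by
        by_cases e : r ∈ R.sgOn {o}
        · rw [z2 r e]; exact mem_of_eq' (by group) (lf_mem_range _ (τ₀⁻¹ * x₀ r t * τ₀))
        have hi : r ∈ R.sgOn {i} ∧ (i : ℕ) < m + 1 := by
          obtain ⟨_, rfl | rfl, hr⟩ := hr
          exacts [⟨⟨_, rfl, hr⟩, (hko _).resolve_right fun e' => e ⟨_, e', hr⟩⟩, absurd ⟨_, rfl, hr⟩ e]
        have := sr_mem_AS (c := false) (S := {i | i ≠ 0 ∧ i ≠ o}) hi.2 ⟨i0, by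
          simp only [o, Ne, Fin.ext_iff, Fin.val_last]; omega⟩ ⟨by simp, by
          simp only [o, a, Ne, Fin.ext_iff, Fin.val_last] at ia ⊢; omega⟩
        rw [z1 r (ha hi.2 hi.1), mul_assoc, (r1 _ ((hAS _).le (x_mem_XS _ (by
          rcases sO i ▸ hi.1 with rfl | rfl
          exacts [this, ng_mem_AS this]) t))).eq, inv_mul_cancel_left]
        exact lf_mem_range _ _), z0 r (sgOn_mono (Set.subset_univ _) hr) t⟩
  have l3 : ∀ i, ∃ z, R.LocSt {i, o} z ∧ ∀ r ∈ R.sgOn {i, o}, z r = fun t => π (y r t) := fun i => by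
    by_cases e : i = 0 ∨ i = a
    · have hi : (i : ℕ) < m + 1 := by rcases e with rfl | rfl <;> simp [a]
      obtain ⟨z, k1, k2⟩ := l1 i i hi hi
      obtain ⟨z', k3, k4⟩ := l2 o (by simp [o]) (by simp [o, a, Fin.ext_iff])
      refine ⟨_, locSt_pair' h₀ (A0 i e) (locSt_single k1 k2) (locSt_single k3 k4) fun r hr s hs t u => ?_,
        fun _ _ => rfl⟩
      rw [z1 r (ha hi hr), z2 s hs]
      exact r4 _ (x_mem_XS _ (by rcases e with rfl | rfl; exacts [Or.inl hr, Or.inr hr]) t) _ (mO s hs u)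
    · exact l2 i (fun h => e (Or.inl h)) fun h => e (Or.inr h)
  obtain ⟨z, hz, hzy, H⟩ := ker_of_loc (a := fun r t => π (y r t)) (φ := φ) h₀ z0 (fun i k => by
      rcases hko i with hi | rfl <;> rcases hko k with hk | rfl
      exacts [l1 i k hi hk, l3 i, Set.pair_comm k o ▸ l3 k, l3 o]) (by
      rw [eq_top_iff, ← MonoidHom.range_eq_top.2 hπ, MonoidHom.range_eq_map, ← hE, MonoidHom.map_closure,
        closure_le]
      rintro _ ⟨_, ⟨l, rfl⟩ | ⟨_, rfl⟩, rfl⟩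
      exacts [range_le_of_XS hU (π.comp γ) (fun r hr t => z1 r hr t ▸
        x_mem_XS (fun r t => π (y r t)) (sgOn_mono (Set.subset_univ _) hr) t) ⟨l, rfl⟩, r2])
  refine (injective_iff_map_eq_one _).2 fun g hg => ?_
  obtain ⟨d, hd, rfl⟩ := H g hg
  obtain ⟨d1, d2, d3⟩ := hker d hd
  have d4 : d a = d o := mul_right_cancel (d2.trans d3.symm)
  have d5 : d = Pi.mulSingle a (d o) * Pi.mulSingle o (d o) := funext fun i => by
    have : a ≠ o := by simp [a, o, Fin.ext_iff]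
    by_cases e : i = a
    · simp [e, d4, this]
    by_cases e' : i = o
    · simp [e', this.symm]
    · rw [d1 i (by have := i.2; simp only [a, o, Fin.ext_iff, Fin.val_last] at e e'; omega)]; simp [e, e']
  rw [d5, map_mul, IsSt.tor_single, IsSt.tor_single]
  have d6 : (d o : K) = 1 ∨ (d o : K) = -1 := mul_self_eq_one_iff.1 (by simpa using congrArg Units.val d3)
  rcases r3 with r3 | r3
  · rw [show (d o : K) = 1 by rwa [r3, or_self] at d6, hh_one (hz.add _) (hz.add _),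
      hh_one (hz.add _) (hz.add _), one_mul]
  rcases d6 with e | e <;> rw [e]
  · rw [hh_one (hz.add _) (hz.add _), hh_one (hz.add _) (hz.add _), one_mul]
  · simpa [hh, nn, hzy, m0] using r3

theorem hasPres_omega [Finite K] (hm : 2 ≤ m) {k r : ℕ}
    (hL : HasPres (Matrix.SpecialLinearGroup (Fin (m + 2)) K) k r) {k' r' : ℕ} (h1 : k + 1 ≤ k')
    (h2 : r + 7 + k' ≤ r' + (k + 1)) : HasPres (Omega K (quadFormPlus (m + 2) K)) k' r' ∧
      HasPres (POmega K (quadFormPlus (m + 2) K)) k' (r' + 1) := by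
  have := Fintype.ofFinite K
  obtain ⟨e⟩ := nonempty_Omega_equiv_EG (Cl.quad_plus_nondeg (m := m + 2) (F := K))
    (fun h => by have := h.2.1; simp at this; omega) (by simp; omega)
  have h := ((hasPres_typeD (isCD_bakO _) (framePlus _ K) framePlus_V0 hm hL).equiv e.symm).mono h1 h2
  have : IsCyclic (center (Omega K ⇑(Cl.quad_plus (m + 2) K))) := isCyclic_of_card_dvd_two (by
    rw [Nat.card_congr (centerCongr (Cl.omegaEquivOG _)).toEquiv, card_center_omega (framePlus _ K) (by omega)]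
    split_ifs <;> simp)
  have h' := h.quot_cyclic (center _)
  exact ⟨h, h'⟩

end Cfsg.Agent.Pr
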